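import Cfsg.Agent.Lib.MathieuAut22.Main
import Cfsg.Agent.Lib.Presented.J4Out.Mathieu
import Cfsg.Agent.Lib.MathieuTwentyTwo.ModelCounts

/-!
Elements of order eleven in `M22` and in its automorphism group: they generate their own centralisers, and
the normaliser in the automorphism group has order 110.
-/

set_option autoImplicit false
set_option linter.style.haveILetI false

namespace CfsgLib.J4Type.Eleven

attribute [local irreducible] CfsgLib.J4Out.pB

open Cfsg CfsgLib.MathieuTwentyTwo

set_option maxRecDepth 20000 in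
theorem card_centralizer_M24 {w : ↥Cfsg.M24} (hw : orderOf w = 11) :
    Nat.card (Subgroup.centralizer ({w} : Set ↥Cfsg.M24)) = 11 := by
  have hd : ¬ 11 * 11 ∣ Nat.card ↥Cfsg.M24 := by rw [CfsgLib.Golay.natCard_M24]; norm_num
  obtain ⟨y, hyval⟩ : ∃ y : ↥Cfsg.M24, y.1 = CfsgLib.J4Out.pB := ⟨⟨_, CfsgLib.J4Out.pB_mem⟩, rfl⟩
  have hy : orderOf y = 11 := by
    have : Fact (Nat.Prime 11) := ⟨by norm_num⟩
    rw [← Subgroup.orderOf_coe, hyval]
    refine orderOf_eq_prime CfsgLib.J4Out.pB_pow_eleven fun e => ?_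
    have h : CfsgLib.J4Out.tblB = List.range 24 := by
      rw [← CfsgLib.J4Out.toList_pB, e, CfsgLib.Golay.toList_one]
    exact absurd h (by decide +kernel)
  rw [Model.card_centralizer_prime (by norm_num) hd hy hw]
  have : Subgroup.centralizer ({y} : Set ↥Cfsg.M24) = Subgroup.zpowers y := by
    refine le_antisymm (fun g hg => ?_) (Subgroup.zpowers_le.2 (Subgroup.mem_centralizer_singleton_iff.2 rfl))
    have hc : (g : Equiv.Perm GolayPt) * CfsgLib.J4Out.pB = CfsgLib.J4Out.pB * g := by
      have h : (g : Equiv.Perm GolayPt) * y.1 = y.1 * g :=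
        congrArg Subtype.val (Subgroup.mem_centralizer_singleton_iff.1 hg)
      rwa [hyval] at h
    obtain ⟨i, hi⟩ := CfsgLib.J4Out.centralizer_pB g.2 (mul_inv_eq_iff_eq_mul.2 hc)
    rw [show g = y ^ i from Subtype.ext (by rw [SubmonoidClass.coe_pow, hyval]; exact hi)]
    exact Subgroup.pow_mem _ (Subgroup.mem_zpowers y) i
  rw [this, Nat.card_zpowers, hy]

theorem card_centralizer_aut {φ : MulAut ↥Spor.M22} (hφ : orderOf φ = 11) :
    Nat.card (Subgroup.centralizer ({φ} : Set (MulAut ↥Spor.M22))) = 11 := by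
  classical
  let ι : MulAut ↥Spor.M22 →* ↥Cfsg.M24 :=
    (Subgroup.inclusion (inf_le_left : CfsgLib.Steiner.Witt.setStab CfsgLib.MathieuAut22.twoPts ≤ Cfsg.M24)).comp
      CfsgLib.MathieuAut22.autM22Equiv.symm.toMonoidHom
  have hι : Function.Injective ι :=
    fun a b h => CfsgLib.MathieuAut22.autM22Equiv.symm.injective (Subgroup.inclusion_injective (inf_le_left : CfsgLib.Steiner.Witt.setStab CfsgLib.MathieuAut22.twoPts ≤ Cfsg.M24) h)
  refine le_antisymm ?_ ?_
  · rw [← card_centralizer_M24 (w := ι φ) (by rw [orderOf_injective ι hι, hφ]),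
      ← Subgroup.card_map_of_injective hι]
    refine Subgroup.card_le_of_le ?_
    rintro _ ⟨g, hg, rfl⟩
    rw [Subgroup.mem_centralizer_singleton_iff, ← map_mul, ← map_mul,
      Subgroup.mem_centralizer_singleton_iff.1 hg]
  · rw [← hφ, ← Nat.card_zpowers]
    exact Subgroup.card_le_of_le (Subgroup.zpowers_le.2 (Subgroup.mem_centralizer_singleton_iff.2 rfl))

theorem card_centralizer_M22 {y : ↥Spor.M22} (hy : orderOf y = 11) :
    Nat.card (Subgroup.centralizer ({y} : Set ↥Spor.M22)) = 11 :=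
  Model.centralizer_prime (Or.inr (Or.inr rfl)) hy

theorem card_normalizer_M22 {y : ↥Spor.M22} (hy : orderOf y = 11) :
    Nat.card (Subgroup.normalizer (Subgroup.zpowers y : Set ↥Spor.M22)) = 55 := by
  have := CfsgLib.MathieuTwentyTwo.NseRoute.nse_model
  exact this.normalizer_eleven hy

theorem card_normalizer_aut {φ : MulAut ↥Spor.M22} (hφ : orderOf φ = 11) :
    Nat.card (Subgroup.normalizer (Subgroup.zpowers φ : Set (MulAut ↥Spor.M22))) = 110 := by
  classical
  set N := (MulAut.conj : ↥Spor.M22 →* MulAut ↥Spor.M22).range with hN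
  have hidx : N.index = 2 := CfsgLib.MathieuAut22.index_inn
  haveI : N.Normal := Subgroup.normal_of_index_eq_two hidx
  have hφN : φ ∈ N := by
    have h1 : (QuotientGroup.mk φ : MulAut ↥Spor.M22 ⧸ N) ^ 2 = 1 := by
      rw [← hidx, Subgroup.index_eq_card]; exact pow_card_eq_one'
    have h2 : (QuotientGroup.mk φ : MulAut ↥Spor.M22 ⧸ N) ^ 11 = 1 := by
      rw [← QuotientGroup.mk_pow, ← hφ, pow_orderOf_eq_one]; rfl
    rw [← QuotientGroup.eq_one_iff]
    calc (QuotientGroup.mk φ : MulAut ↥Spor.M22 ⧸ N)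
        = ((QuotientGroup.mk φ : MulAut ↥Spor.M22 ⧸ N) ^ 2) ^ 5 * QuotientGroup.mk φ := by rw [h1]; simp
      _ = 1 := by rw [← pow_mul, ← pow_succ]; exact h2
  obtain ⟨y, hy⟩ := hφN
  have hy11 : orderOf y = 11 := by
    rw [← hφ, ← hy, orderOf_injective _ CfsgLib.MathieuAut22.conj_injective]
  set M := Subgroup.normalizer (Subgroup.zpowers φ : Set (MulAut ↥Spor.M22)) with hM
  have hcap : Nat.card (N.subgroupOf M) = 55 := by
    have hinj : Function.Injective (MulAut.conj : ↥Spor.M22 →* MulAut ↥Spor.M22) :=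
      CfsgLib.MathieuAut22.conj_injective
    have hmemc : ∀ g x : ↥Spor.M22, (MulAut.conj g * MulAut.conj x * (MulAut.conj g)⁻¹ ∈ Subgroup.zpowers φ) ↔
        g * x * g⁻¹ ∈ Subgroup.zpowers y := fun g x => by
      rw [← map_inv, ← map_mul, ← map_mul, ← hy, ← MonoidHom.map_zpowers, Subgroup.mem_map_iff_mem hinj]
    have hmem : ∀ x : ↥Spor.M22, MulAut.conj x ∈ Subgroup.zpowers φ ↔ x ∈ Subgroup.zpowers y := fun x => by
      rw [← hy, ← MonoidHom.map_zpowers, Subgroup.mem_map_iff_mem hinj]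
    have hEq : M ⊓ N = (Subgroup.normalizer (Subgroup.zpowers y : Set ↥Spor.M22)).map
        (MulAut.conj : ↥Spor.M22 →* MulAut ↥Spor.M22) := by
      ext m
      constructor
      · rintro ⟨hm, g, rfl⟩
        refine ⟨g, ?_, rfl⟩
        rw [SetLike.mem_coe, Subgroup.mem_normalizer_iff]
        intro x
        rw [← hmem, ← hmemc]
        exact Subgroup.mem_normalizer_iff.1 hm _
      · rintro ⟨g, hg, rfl⟩
        refine ⟨?_, g, rfl⟩
        show MulAut.conj g ∈ M
        rw [hM, Subgroup.mem_normalizer_iff]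
        intro ψ
        by_cases h : ψ ∈ N
        · obtain ⟨x, rfl⟩ := h
          rw [hmem, hmemc]
          exact Subgroup.mem_normalizer_iff.1 hg x
        · have hle : Subgroup.zpowers φ ≤ N := Subgroup.zpowers_le.2 ⟨y, hy⟩
          refine iff_of_false (fun hh => h (hle hh)) fun hh => h ?_
          have := mul_mem (mul_mem (inv_mem (⟨g, rfl⟩ : MulAut.conj g ∈ N)) (hle hh))
            (⟨g, rfl⟩ : MulAut.conj g ∈ N)
          simpa [mul_assoc] using this
    rw [← Subgroup.inf_subgroupOf_left, Nat.card_congr (Subgroup.subgroupOfEquivOfLe inf_le_left).toEquiv,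
      hEq, Subgroup.card_map_of_injective hinj, card_normalizer_M22 hy11]
  -- the Frattini argument
  have : Fact (Nat.Prime 11) := ⟨by norm_num⟩
  have hNc : Nat.card N = 443520 := CfsgLib.MathieuAut22.natCard_inn
  have hle : Subgroup.zpowers φ ≤ N := Subgroup.zpowers_le.2 ⟨y, hy⟩
  let S : Sylow 11 N := Sylow.ofCard ((Subgroup.zpowers φ).subgroupOf N) (by
    rw [Nat.card_congr (Subgroup.subgroupOfEquivOfLe hle).toEquiv, Nat.card_zpowers, hφ, hNc,
      show (443520 : ℕ) = 11 ^ 1 * 40320 by norm_num, Nat.factorization_mul (by norm_num) (by norm_num),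
      Finsupp.add_apply, Nat.Prime.factorization_pow (by norm_num), Finsupp.single_eq_same,
      Nat.factorization_eq_zero_of_not_dvd (by norm_num : ¬ 11 ∣ 40320)]
    norm_num)
  have hsup : M ⊔ N = ⊤ := by
    have := Sylow.normalizer_sup_eq_top S
    rwa [Sylow.coe_ofCard, Subgroup.subgroupOf_map_subtype, inf_eq_left.2 hle] at this
  have h2 : (N.subgroupOf M).index = 2 := by
    rw [← Subgroup.relIndex, ← Subgroup.relIndex_sup_left, sup_comm, hsup, Subgroup.relIndex_top_right, hidx]
  rw [← (N.subgroupOf M).card_mul_index, hcap, h2]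

end CfsgLib.J4Type.Eleven
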