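import Cfsg.Agent.Lib.J4Type86.Isolation
import Cfsg.Agent.Lib.J4Type86.SixFold
import Cfsg.Agent.Lib.J4Type.Fusion
import Cfsg.Agent.Lib.J4Type.Eleven.Mathieu

/-!
An element `b` of order eleven of `C_H(P)` in Janko-four type: inside `H` its centraliser has order 264
with a quaternion 2-part, and its normaliser has order 2640.
-/

set_option autoImplicit false
set_option linter.style.haveILetI false
set_option linter.unusedSectionVars false

namespace CfsgLib.J4Type.Eleven

open Cfsg CfsgLib.J4Type86 CfsgLib.LargeExtra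
open scoped Pointwise

variable {G : Type*} [Group G] [Finite G] {z b : G} {P : Subgroup G}

/-- The fixed points in the core. -/
abbrev CQ (z b : G) : Subgroup G := twoCoreOfCentralizer z ⊓ Subgroup.centralizer ({b} : Set G)

/-- The centraliser in `H`. -/
abbrev DD (z b : G) : Subgroup G := cH z ⊓ Subgroup.centralizer ({b} : Set G)

/-- The part of the centraliser over `P E`. -/
abbrev KK (z : G) (P : Subgroup G) (b : G) : Subgroup G := (P ⊔ twoCoreOfCentralizer z) ⊓ DD z b

/-- The normaliser in `H`. -/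
abbrev NN (z b : G) : Subgroup G := cH z ⊓ Subgroup.normalizer (Subgroup.zpowers b : Set G)

theorem conj_succ (a e : G) (m : ℕ) :
    a ^ (m + 1) * e * (a ^ (m + 1))⁻¹ = a * (a ^ m * e * (a ^ m)⁻¹) * a⁻¹ := by
  rw [pow_succ', mul_inv_rev]; simp only [mul_assoc]

theorem pow_mul_inv_succ (y b : G) (m : ℕ) :
    (y * b) ^ (m + 1) * (b ^ (m + 1))⁻¹ = y * (b * ((y * b) ^ m * (b ^ m)⁻¹) * b⁻¹) := by
  rw [pow_succ', pow_succ', mul_inv_rev]; simp only [mul_assoc]

variable (hJ : IsOfJankoFourTypeWith z P)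
include hJ

theorem exists_eleven : ∃ b ∈ cC z P, orderOf b = 11 := by
  have : Fact (Nat.Prime 11) := ⟨by norm_num⟩
  obtain ⟨b, hb⟩ := exists_prime_orderOf_dvd_card' (G := ↥(cC z P)) 11 (by rw [card_cC hJ]; norm_num)
  exact ⟨b, b.2, by rw [Subgroup.orderOf_coe]; exact hb⟩

theorem commute_P {c : G} (hc : c ∈ cC z P) {p : G} (hp : p ∈ P) : p * c = c * p :=
  Subgroup.mem_centralizer_iff.1 hc.2 p hp

variable (hb : b ∈ cC z P) (hb11 : orderOf b = 11)
include hb hb11

theorem b_pow : b ^ 11 = 1 := hb11 ▸ pow_orderOf_eq_one b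

theorem b_ne : b ≠ 1 := fun e => by rw [e, orderOf_one] at hb11; omega

theorem not_mem_core : b ∉ twoCoreOfCentralizer z := fun h => by
  have := (twoCoreOfCentralizer z).orderOf_dvd_natCard h
  rw [hb11, card_core hJ] at this
  norm_num at this

theorem z_comm_b : b * z = z * b := mem_cH.1 hb.1

/-- Conjugation by `b` does not move an element of the core by `z`. -/
theorem conj_ne {e : G} (h : b * e * b⁻¹ = z * e) : False := by
  have hstep : ∀ n : ℕ, b ^ n * e * (b ^ n)⁻¹ = z ^ n * e := by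
    intro n
    induction n with
    | zero => simp
    | succ m ih =>
      have hz : b * z ^ m * b⁻¹ = z ^ m := by
        rw [(Commute.pow_right (z_comm_b hJ hb hb11) m).eq, mul_inv_cancel_right]
      calc b ^ (m + 1) * e * (b ^ (m + 1))⁻¹ = b * (b ^ m * e * (b ^ m)⁻¹) * b⁻¹ := conj_succ _ _ _
        _ = (b * z ^ m * b⁻¹) * (b * e * b⁻¹) := by rw [ih]; group
        _ = z ^ m * (z * e) := by rw [hz, h]
        _ = z ^ (m + 1) * e := by rw [pow_succ, mul_assoc]
  have h11 := hstep 11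
  rw [b_pow hJ hb hb11, one_mul, inv_one, mul_one] at h11
  have hz : z ^ 11 = 1 := mul_eq_right.1 h11.symm
  have := orderOf_dvd_of_pow_eq_one hz
  rw [hJ.1] at this
  norm_num at this

theorem mem_CQ_of_cases {e : G} (he : e ∈ twoCoreOfCentralizer z)
    (h : b * e * b⁻¹ = e ∨ b * e * b⁻¹ = z * e) : e ∈ CQ z b := by
  rcases h with h | h
  · exact ⟨he, Subgroup.mem_centralizer_singleton_iff.2 (mul_inv_eq_iff_eq_mul.1 h).symm⟩
  · exact (conj_ne hJ hb hb11 h).elim

/-- The fixed vectors form a group of order four. -/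
theorem card_fixed_vectors :
    Nat.card {v : CoreV z // coreAct ⟨b, hb.1⟩ v = v} = 4 := by
  classical
  have : Fact (Nat.Prime 11) := ⟨by norm_num⟩
  have := Fintype.ofFinite (CoreV z)
  set c : ↥(cH z) := ⟨b, hb.1⟩ with hcdef
  let f : Function.End (CoreV z) := fun v => coreAct c v
  have hfn : ∀ (n : ℕ) (v : CoreV z), (f ^ n) v = coreAct (c ^ n) v := by
    intro n
    induction n with
    | zero => intro v; rw [pow_zero, pow_zero]; exact (coreAct_center hJ (c := 1) (Or.inl rfl) v).symm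
    | succ m ih =>
      intro v
      rw [pow_succ', pow_succ', coreAct_mul, ← ih v]
      rfl
  have hf : f ^ 11 ^ 1 = 1 := by
    funext v
    rw [pow_one, hfn]
    exact coreAct_center hJ (Or.inl (b_pow hJ hb hb11)) v
  have hmod := Equiv.Perm.card_fixedPoints_modEq hf
  rw [← Nat.card_eq_fintype_card, ← Nat.card_eq_fintype_card, card_coreV hJ] at hmod
  let F : AddSubgroup (CoreV z) :=
    { carrier := {v | coreAct c v = v}
      add_mem' := fun {u v} (hu : coreAct c u = u) (hv : coreAct c v = v) => by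
        show coreAct c (u + v) = u + v
        rw [map_add, hu, hv]
      zero_mem' := map_zero _
      neg_mem' := fun {v} (hv : coreAct c v = v) => by show coreAct c (-v) = -v; rw [map_neg, hv] }
  obtain ⟨k, hk, hkF⟩ := (Nat.dvd_prime_pow Nat.prime_two).1
    (show Nat.card F ∣ 2 ^ 12 from (AddSubgroup.card_addSubgroup_dvd_card F).trans (by rw [card_coreV hJ]; norm_num))
  show Nat.card F = 4
  change 4096 ≡ Nat.card F [MOD 11] at hmod
  rw [hkF] at hmod ⊢
  have hk12 : k ≠ 12 := by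
    rintro rfl
    have hFtop : F = ⊤ := AddSubgroup.eq_top_of_card_eq _ (by rw [hkF, card_coreV hJ]; norm_num)
    refine not_mem_core hJ hb hb11 (hJ.2.2.2.1 ⟨hb.1, Subgroup.mem_centralizer_iff.2 fun e he => ?_⟩)
    have hv : coreAct c (Additive.ofMul ((⟨e, he⟩ : CoreT z) : CoreT z ⧸ Subgroup.center (CoreT z))) =
        Additive.ofMul ((⟨e, he⟩ : CoreT z) : CoreT z ⧸ Subgroup.center (CoreT z)) :=
      show _ ∈ F by rw [hFtop]; exact AddSubgroup.mem_top _
    rw [coreAct_mk] at hv
    have hv' := QuotientGroup.eq.1 (Additive.ofMul.injective hv)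
    rw [mem_center_core_iff hJ, Subgroup.coe_mul, Subgroup.coe_inv, coreConj_apply] at hv'
    have := (mem_CQ_of_cases hJ hb hb11 he ?_).2
    · exact (Subgroup.mem_centralizer_singleton_iff.1 this)
    rcases hv' with h | h
    · exact Or.inl (inv_mul_eq_one.1 h)
    · refine Or.inr ?_
      rw [inv_mul_eq_iff_eq_mul] at h
      have hz2 := (extraAt hJ).sq_one
      have hcz : b * e * b⁻¹ * z = z * (b * e * b⁻¹) :=
        mem_cH.1 (core_le_cH (core_conj_mem hb.1 he))
      calc b * e * b⁻¹ = (b * e * b⁻¹ * z) * z := by rw [mul_assoc _ z z, hz2, mul_one]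
        _ = e * z := by rw [← h]
        _ = z * e := (extraAt hJ).comm_z he
  interval_cases k <;> simp_all (config := { decide := true })

theorem card_CQ : Nat.card ↥(CQ z b) = 8 := by
  classical
  set S : Subgroup (CoreT z) := (Subgroup.centralizer ({b} : Set G)).subgroupOf (twoCoreOfCentralizer z) with hS
  have hmem : ∀ e : CoreT z, e ∈ S ↔ (e : G) ∈ CQ z b := fun e =>
    ⟨fun h => ⟨e.2, h⟩, fun h => h.2⟩
  have hcS : Subgroup.center (CoreT z) ≤ S := fun e he => by
    rw [hmem]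
    refine ⟨e.2, Subgroup.mem_centralizer_singleton_iff.2 ?_⟩
    rcases (mem_center_core_iff hJ).1 he with h | h <;> rw [h]
    · simp
    · exact (z_comm_b hJ hb hb11).symm
  have hfix : ∀ e : CoreT z, e ∈ S ↔
      coreAct ⟨b, hb.1⟩ (Additive.ofMul ((e : CoreT z) : CoreT z ⧸ Subgroup.center (CoreT z))) =
        Additive.ofMul ((e : CoreT z) : CoreT z ⧸ Subgroup.center (CoreT z)) := by
    intro e
    rw [coreAct_mk, Additive.ofMul.injective.eq_iff, hmem]
    constructor
    · intro h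
      congr 1
      apply Subtype.ext
      rw [coreConj_apply]
      exact mul_inv_eq_iff_eq_mul.2 (Subgroup.mem_centralizer_singleton_iff.1 h.2).symm
    · intro h
      have h' := QuotientGroup.eq.1 h.symm
      rw [mem_center_core_iff hJ, Subgroup.coe_mul, Subgroup.coe_inv, coreConj_apply] at h'
      refine mem_CQ_of_cases hJ hb hb11 e.2 (h'.imp (fun h => (inv_mul_eq_one.1 h).symm) fun h => ?_)
      rw [inv_mul_eq_iff_eq_mul] at h
      exact h.trans ((extraAt hJ).comm_z e.2)
  have hmap : Nat.card (S.map (QuotientGroup.mk' (Subgroup.center (CoreT z)))) = 4 := by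
    rw [← card_fixed_vectors hJ hb hb11]
    refine Nat.card_congr (Additive.ofMul.subtypeEquiv fun w => ?_)
    obtain ⟨e, rfl⟩ := QuotientGroup.mk_surjective w
    rw [← hfix]
    constructor
    · rintro ⟨f, hf, hfe⟩
      have := mul_mem hf (hcS (QuotientGroup.eq.1 hfe))
      simpa using this
    · exact fun h => ⟨e, h, rfl⟩
  have hk : Nat.card ((QuotientGroup.mk' (Subgroup.center (CoreT z))).ker.subgroupOf S) = 2 := by
    rw [QuotientGroup.ker_mk', Nat.card_congr (Subgroup.subgroupOfEquivOfLe hcS).toEquiv, card_center_core hJ]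
  have h8 := card_eq_card_map_mul (QuotientGroup.mk' (Subgroup.center (CoreT z))) S
  rw [hmap, hk] at h8
  rw [← Nat.card_congr (Subgroup.subgroupOfEquivOfLe (inf_le_left : CQ z b ≤ twoCoreOfCentralizer z)).toEquiv,
    show (CQ z b).subgroupOf (twoCoreOfCentralizer z) = S from Subgroup.ext fun e => (hmem e).symm, h8]

omit hb11 in
theorem z_mem_CQ : z ∈ CQ z b :=
  ⟨z_mem_core hJ, Subgroup.mem_centralizer_singleton_iff.2 (mem_cH.1 hb.1).symm⟩

/-- A non-central element of `C_E(b)` is not central there. -/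
theorem exists_noncomm {e : G} (he : e ∈ CQ z b) (h1 : e ≠ 1) (h2 : e ≠ z) :
    ∃ f ∈ CQ z b, f * e ≠ e * f := by
  have hE := extraAt hJ
  obtain ⟨y, hy, hye⟩ := hE.exists_conj_eq he.1 h1 h2
  have hzb : b * z * b⁻¹ = z := by rw [z_comm_b hJ hb hb11, mul_inv_cancel_right]
  have hzy : y * z * y⁻¹ = z := by rw [hE.comm_z hy, mul_inv_cancel_right]
  have heb : b * e * b⁻¹ = e :=
    mul_inv_eq_iff_eq_mul.2 (Subgroup.mem_centralizer_singleton_iff.1 he.2).symm
  have hwe : ∀ n : ℕ, (y * b) ^ n * e * ((y * b) ^ n)⁻¹ = z ^ n * e := by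
    intro n
    induction n with
    | zero => simp
    | succ m ih =>
      have hzm : (y * b) * z ^ m * (y * b)⁻¹ = z ^ m := by
        rw [← conj_pow, show (y * b) * z * (y * b)⁻¹ = y * (b * z * b⁻¹) * y⁻¹ by group, hzb, hzy]
      calc (y * b) ^ (m + 1) * e * ((y * b) ^ (m + 1))⁻¹
          = (y * b) * ((y * b) ^ m * e * ((y * b) ^ m)⁻¹) * (y * b)⁻¹ := conj_succ _ _ _
        _ = ((y * b) * z ^ m * (y * b)⁻¹) * (y * (b * e * b⁻¹) * y⁻¹) := by rw [ih]; group
        _ = z ^ m * (z * e) := by rw [hzm, heb, hye]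
        _ = z ^ (m + 1) * e := by rw [pow_succ, mul_assoc]
  have hwQ : ∀ n : ℕ, (y * b) ^ n * (b ^ n)⁻¹ ∈ twoCoreOfCentralizer z := by
    intro n
    induction n with
    | zero => simp
    | succ m ih =>
      rw [pow_mul_inv_succ]
      exact mul_mem hy (core_conj_mem hb.1 ih)
  have hW : (y * b) ^ 11 ∈ twoCoreOfCentralizer z := by
    have := hwQ 11
    rwa [b_pow hJ hb hb11, inv_one, mul_one] at this
  refine ⟨(y * b) ^ 11, mem_CQ_of_cases hJ hb hb11 hW ?_, fun hcomm => ?_⟩
  · have e1 : b * (y * b) ^ 11 * b⁻¹ = y⁻¹ * ((y * b) * (y * b) ^ 11) * b⁻¹ := by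
      simp only [mul_assoc, inv_mul_cancel_left]
    rw [e1, (Commute.self_pow (y * b) 11).eq,
      show y⁻¹ * ((y * b) ^ 11 * (y * b)) * b⁻¹ = y⁻¹ * (y * b) ^ 11 * y⁻¹⁻¹ by
        generalize (y * b) ^ 11 = W
        simp [mul_assoc]]
    exact hE.conj_cases (inv_mem hy) hW
  · have := hwe 11
    rw [hcomm, mul_inv_cancel_right] at this
    have hz11 : z ^ 11 = 1 := mul_eq_right.1 this.symm
    have hd := orderOf_dvd_of_pow_eq_one hz11
    rw [hJ.1] at hd
    norm_num at hd

/-- `z` is the only involution of `C_E(b)`. -/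
theorem CQ_sq {e : G} (he : e ∈ CQ z b) (h : e * e = 1) : e = 1 ∨ e = z := by
  classical
  by_contra hne
  push Not at hne
  obtain ⟨f, hf, hfe⟩ := exists_noncomm hJ hb hb11 he hne.1 hne.2
  obtain ⟨q, hq, hq1⟩ : ∃ q ∈ P, q ≠ 1 := P.bot_or_exists_ne_one.resolve_left fun hbot => by
    have := card_P hJ
    rw [hbot, Subgroup.card_bot] at this
    omega
  set c : ↥(cH z) := ⟨q, P_le_cH hJ hq⟩ with hc
  set mk : CoreT z → CoreV z := fun x => Additive.ofMul ((x : CoreT z) : CoreT z ⧸ Subgroup.center (CoreT z))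
  set v : CoreV z := mk ⟨e, he.1⟩ with hv
  have hconjCQ : ∀ x ∈ CQ z b, q * x * q⁻¹ ∈ CQ z b := fun x hx => by
    refine ⟨core_conj_mem (P_le_cH hJ hq) hx.1, Subgroup.mem_centralizer_singleton_iff.2 ?_⟩
    have hqb := commute_P hJ hb hq
    have hxb := Subgroup.mem_centralizer_singleton_iff.1 hx.2
    calc q * x * q⁻¹ * b = q * (x * b) * q⁻¹ := by
          rw [mul_assoc _ q⁻¹ b, (Commute.inv_left (hqb : Commute q b)).eq]; group
      _ = q * (b * x) * q⁻¹ := by rw [hxb]
      _ = b * (q * x * q⁻¹) := by rw [← mul_assoc q b x, hqb]; group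
  have hv0 : v ≠ 0 := fun h0 => by
    have h0' := (QuotientGroup.eq_one_iff (⟨e, he.1⟩ : CoreT z)).1 (Additive.ofMul.injective h0)
    rcases (mem_center_core_iff hJ).1 h0' with h' | h'
    exacts [hne.1 h', hne.2 h']
  have hwfix : ∀ u : CoreV z, coreAct c u = u → u = 0 := fun u hu => coreAct_q_fix hJ hq hq1 hu
  have h3 : ∀ u : CoreV z, coreAct c (coreAct c (coreAct c u)) = u := fun u => by
    rw [← coreAct_mul, ← coreAct_mul]
    refine coreAct_center hJ (Or.inl ?_) u
    show q * q * q = 1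
    rw [← pow_three_P hJ hq, pow_succ, sq]
  let T : Finset (CoreV z) := {0, v, coreAct c v, coreAct c (coreAct c v)}
  have hTF : ∀ u ∈ T, coreAct ⟨b, hb.1⟩ u = u := by
    have key : ∀ x : CoreT z, (x : G) ∈ CQ z b → coreAct ⟨b, hb.1⟩ (mk x) = mk x := fun x hx => by
      show coreAct _ (Additive.ofMul _) = Additive.ofMul _
      rw [coreAct_mk]
      congr 2
      apply Subtype.ext
      rw [coreConj_apply]
      exact mul_inv_eq_iff_eq_mul.2 (Subgroup.mem_centralizer_singleton_iff.1 hx.2).symm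
    intro u hu
    simp only [T, Finset.mem_insert, Finset.mem_singleton] at hu
    rcases hu with rfl | rfl | rfl | rfl
    · exact map_zero _
    · exact key _ he
    · rw [hv, show coreAct c (mk ⟨e, he.1⟩) = mk (coreConj c ⟨e, he.1⟩) from coreAct_mk c _]
      exact key _ (hconjCQ e he)
    · rw [hv, show coreAct c (mk ⟨e, he.1⟩) = mk (coreConj c ⟨e, he.1⟩) from coreAct_mk c _,
        show coreAct c (mk (coreConj c ⟨e, he.1⟩)) = mk (coreConj c (coreConj c ⟨e, he.1⟩)) from coreAct_mk c _]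
      exact key _ (hconjCQ _ (hconjCQ e he))
  have hd1 : coreAct c v ≠ v := fun h' => hv0 (hwfix v h')
  have hd2 : coreAct c (coreAct c v) ≠ coreAct c v := fun h' => by
    apply hd1
    have := congrArg (fun u => coreAct c (coreAct c u)) h'
    simp only [h3] at this
    exact this
  have hd3 : coreAct c (coreAct c v) ≠ v := fun h' => by
    apply hd1
    have := congrArg (coreAct c) h'
    rw [h3] at this
    exact this.symm
  have hd4 : coreAct c v ≠ 0 := fun h' => hv0 (by rw [← h3 v, h', map_zero, map_zero])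
  have hd5 : coreAct c (coreAct c v) ≠ 0 := fun h' => hv0 (by rw [← h3 v, h', map_zero])
  have hT : T.card = 4 := by
    simp only [T]
    rw [Finset.card_insert_of_notMem, Finset.card_insert_of_notMem, Finset.card_pair hd2.symm]
    · simp [hd1.symm, hd3.symm]
    · simp [hv0.symm, hd4.symm, hd5.symm]
  have hall : ∀ u : CoreV z, coreAct ⟨b, hb.1⟩ u = u → u ∈ T := by
    intro u hu
    by_contra hnot
    have hle := Nat.card_le_card_of_injective
      (fun x : {x // x ∈ insert u T} => (⟨x.1, (Finset.mem_insert.1 x.2).elim (fun e => by rw [e]; exact hu) (hTF _)⟩ :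
        {w : CoreV z // coreAct ⟨b, hb.1⟩ w = w})) (fun x y h => Subtype.ext (congrArg Subtype.val h :))
    rw [Nat.card_eq_fintype_card, Fintype.card_coe, Finset.card_insert_of_notMem hnot, hT,
      card_fixed_vectors hJ hb hb11] at hle
    omega
  -- every element of `C_E(b)` is then an involution
  have hsq : ∀ x ∈ CQ z b, x * x = 1 := by
    intro x hx
    have hval : ∀ w : CoreT z, (w : G) * (w : G) = 1 → mk ⟨x, hx.1⟩ = mk w → x * x = 1 := by
      intro w hw hxw
      have h' := QuotientGroup.eq.1 (Additive.ofMul.injective hxw.symm)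
      rw [mem_center_core_iff hJ, Subgroup.coe_mul, Subgroup.coe_inv] at h'
      rcases h' with h' | h'
      · have e2 : (w : G) = x := inv_mul_eq_one.1 h'
        rwa [e2] at hw
      · have hxz : x = (w : G) * z := inv_mul_eq_iff_eq_mul.1 h'
        rw [hxz, mul_assoc, ← mul_assoc z, ← (extraAt hJ).comm_z w.2, mul_assoc (w : G) z z,
          (extraAt hJ).sq_one, mul_one, hw]
    have hin : mk ⟨x, hx.1⟩ ∈ T := by
      refine hall _ ?_
      show coreAct _ (Additive.ofMul _) = Additive.ofMul _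
      rw [coreAct_mk]
      congr 2
      apply Subtype.ext
      rw [coreConj_apply]
      exact mul_inv_eq_iff_eq_mul.2 (Subgroup.mem_centralizer_singleton_iff.1 hx.2).symm
    simp only [T, Finset.mem_insert, Finset.mem_singleton] at hin
    rcases hin with h' | h' | h' | h'
    · exact hval 1 (by simp) h'
    · exact hval _ h h'
    · exact hval (coreConj c ⟨e, he.1⟩) (by rw [coreConj_apply, conj_mul, h, mul_one, mul_inv_cancel]) h'
    · exact hval (coreConj c (coreConj c ⟨e, he.1⟩))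
        (by rw [coreConj_apply, coreConj_apply, conj_mul, conj_mul, h, mul_one, mul_inv_cancel, mul_one, mul_inv_cancel]) h'
  exact hfe (by
    have := hsq _ (mul_mem hf he)
    calc f * e = (f * e)⁻¹ := eq_inv_of_mul_eq_one_left this
      _ = e⁻¹ * f⁻¹ := mul_inv_rev f e
      _ = e * f := by rw [inv_eq_of_mul_eq_one_right h, inv_eq_of_mul_eq_one_right (hsq f hf)])

omit hb11 in
theorem mem_PQ {g : G} : g ∈ P ⊔ twoCoreOfCentralizer z ↔
    ∃ p ∈ P, ∃ e ∈ twoCoreOfCentralizer z, g = p * e := by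
  rw [← SetLike.mem_coe, Subgroup.coe_mul_of_left_le_normalizer_right _ _
    ((P_le_cH hJ).trans cH_le_normalizer_core), Set.mem_mul]
  exact ⟨fun ⟨p, hp, e, he, h⟩ => ⟨p, hp, e, he, h.symm⟩,
    fun ⟨p, hp, e, he, h⟩ => ⟨p, hp, e, he, h.symm⟩⟩

omit hb11 in
theorem P_le_KK : P ≤ KK z P b := fun p hp =>
  ⟨Subgroup.mem_sup_left hp, P_le_cH hJ hp, Subgroup.mem_centralizer_singleton_iff.2 (commute_P hJ hb hp)⟩

omit hb11 in
theorem CQ_le_KK : CQ z b ≤ KK z P b := fun _ he =>
  ⟨Subgroup.mem_sup_right he.1, core_le_cH he.1, he.2⟩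

theorem card_KK : Nat.card ↥(KK z P b) = 24 := by
  refine le_antisymm ?_ (Nat.le_of_dvd Nat.card_pos (Nat.Coprime.mul_dvd_of_dvd_of_dvd (m := 3) (n := 8)
    (by norm_num) ?_ ?_))
  · have h := Nat.card_le_card_of_injective
      (β := ↥((P : Set G) * (CQ z b : Set G))) (fun g : KK z P b => ⟨g.1, by
        obtain ⟨p, hp, e, he, hg⟩ := (mem_PQ hJ hb).1 g.2.1
        refine Set.mem_mul.2 ⟨p, hp, e, ⟨he, ?_⟩, hg.symm⟩
        have he' : e = p⁻¹ * g.1 := by rw [hg]; group
        rw [he']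
        exact (Subgroup.centralizer ({b} : Set G)).mul_mem
          ((Subgroup.centralizer ({b} : Set G)).inv_mem (P_le_KK hJ hb hp).2.2) g.2.2.2⟩)
      fun x y h => Subtype.ext (congrArg Subtype.val h :)
    refine h.trans (Set.natCard_mul_le.trans ?_)
    show Nat.card P * Nat.card (CQ z b) ≤ 24
    rw [card_P hJ, card_CQ hJ hb hb11]
  · exact card_P hJ ▸ Subgroup.card_dvd_of_le (P_le_KK hJ hb)
  · exact card_CQ hJ hb hb11 ▸ Subgroup.card_dvd_of_le (CQ_le_KK hJ hb)

theorem b_not_PQ : b ∉ P ⊔ twoCoreOfCentralizer z := fun h => by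
  obtain ⟨p, hp, e, he, hbe⟩ := (mem_PQ hJ hb).1 h
  have hK : b ∈ KK z P b := ⟨h, hb.1, Subgroup.mem_centralizer_singleton_iff.2 rfl⟩
  have := (KK z P b).orderOf_dvd_natCard hK
  rw [hb11, card_KK hJ hb hb11] at this
  norm_num at this

theorem card_DD : Nat.card ↥(DD z b) = 264 := by
  obtain ⟨π, hπs, hπ⟩ := exists_proj hJ
  set D : Subgroup ↥(cH z) := (DD z b).subgroupOf (cH z) with hD
  have hπ' : ∀ h : ↥(cH z), π h = 1 ↔ (h : G) ∈ P ⊔ twoCoreOfCentralizer z := fun h =>
    (hπ h).trans (mem_PQ hJ hb).symm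
  have hker : Nat.card (π.ker.subgroupOf D) = 24 := by
    rw [← card_KK hJ hb hb11]
    exact Nat.card_congr
      { toFun := fun x => ⟨x.1.1.1, (hπ' _).1 x.2, x.1.2⟩
        invFun := fun g => ⟨⟨⟨g.1, g.2.2.1⟩, g.2.2⟩, (hπ' _).2 g.2.1⟩
        left_inv := fun _ => rfl
        right_inv := fun _ => rfl }
  have hord : orderOf (π ⟨b, hb.1⟩) = 11 := by
    have : Fact (Nat.Prime 11) := ⟨by norm_num⟩
    refine orderOf_eq_prime ?_ fun h => b_not_PQ hJ hb hb11 ((hπ' _).1 h)
    rw [← map_pow, show (⟨b, hb.1⟩ : ↥(cH z)) ^ 11 = 1 from Subtype.ext (b_pow hJ hb hb11), map_one]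
  have hmap : D.map π = Subgroup.centralizer {π ⟨b, hb.1⟩} := by
    refine Subgroup.eq_of_le_of_card_ge ?_ ?_
    · rintro _ ⟨h, hh, rfl⟩
      rw [Subgroup.mem_centralizer_singleton_iff, ← map_mul, ← map_mul]
      congr 1
      exact Subtype.ext (Subgroup.mem_centralizer_singleton_iff.1 (Subgroup.mem_subgroupOf.1 hh).2)
    · rw [card_centralizer_aut hord, ← hord, ← Nat.card_zpowers]
      refine Subgroup.card_le_of_le (Subgroup.zpowers_le.2 ⟨⟨b, hb.1⟩, ?_, rfl⟩)
      exact ⟨hb.1, Subgroup.mem_centralizer_singleton_iff.2 rfl⟩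
  have := card_eq_card_map_mul π D
  rw [hmap, card_centralizer_aut hord, hker,
    Nat.card_congr (Subgroup.subgroupOfEquivOfLe (inf_le_left : DD z b ≤ cH z)).toEquiv] at this
  exact this

omit hb hb11 in
theorem CQ_normal_DD {g e : G} (hg : g ∈ DD z b) (he : e ∈ CQ z b) : g * e * g⁻¹ ∈ CQ z b :=
  ⟨core_conj_mem hg.1 he.1, (Subgroup.centralizer ({b} : Set G)).mul_mem
    ((Subgroup.centralizer ({b} : Set G)).mul_mem hg.2 he.2) ((Subgroup.centralizer ({b} : Set G)).inv_mem hg.2)⟩

/-- A 2-element of the centraliser lies in the core. -/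
theorem mem_CQ_of_pow {g : G} (hg : g ∈ DD z b) {k : ℕ} (hk : g ^ 2 ^ k = 1) : g ∈ CQ z b := by
  set C : Subgroup ↥(DD z b) := (CQ z b).subgroupOf (DD z b) with hC
  have hle : CQ z b ≤ DD z b := (CQ_le_KK hJ hb).trans inf_le_right
  have : C.Normal := ⟨fun e he g => by
    rw [hC, Subgroup.mem_subgroupOf] at he ⊢
    exact CQ_normal_DD hJ g.2 he⟩
  have hidx : C.index = 33 := by
    have h := C.card_mul_index
    rw [Nat.card_congr (Subgroup.subgroupOfEquivOfLe hle).toEquiv, card_CQ hJ hb hb11,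
      card_DD hJ hb hb11] at h
    omega
  have h1 : (QuotientGroup.mk (⟨g, hg⟩ : ↥(DD z b)) : ↥(DD z b) ⧸ C) = 1 := by
    rw [← orderOf_eq_one_iff]
    refine Nat.eq_one_of_dvd_coprimes (a := 2 ^ k) (b := 33) (Nat.Coprime.pow_left _ (by norm_num)) ?_ ?_
    · exact orderOf_dvd_of_pow_eq_one (by
        rw [← QuotientGroup.mk_pow, show (⟨g, hg⟩ : ↥(DD z b)) ^ 2 ^ k = 1 from Subtype.ext hk]; rfl)
    · rw [← hidx, Subgroup.index_eq_card]; exact orderOf_dvd_natCard _
  exact Subgroup.mem_subgroupOf.1 ((QuotientGroup.eq_one_iff _).1 h1)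

theorem DD_invol {u : G} (hu : u ∈ DD z b) (h : u * u = 1) : u = 1 ∨ u = z :=
  CQ_sq hJ hb hb11 (mem_CQ_of_pow hJ hb hb11 hu (k := 1) (by rw [pow_one, sq, h])) h

theorem card_NN : Nat.card ↥(NN z b) = 2640 := by
  obtain ⟨π, hπs, hπ⟩ := exists_proj hJ
  have hπ' : ∀ h : ↥(cH z), π h = 1 ↔ (h : G) ∈ P ⊔ twoCoreOfCentralizer z := fun h =>
    (hπ h).trans (mem_PQ hJ hb).symm
  set B : ↥(cH z) := ⟨b, hb.1⟩ with hB
  set N : Subgroup ↥(cH z) := (NN z b).subgroupOf (cH z) with hN
  have hord : orderOf (π B) = 11 := by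
    have : Fact (Nat.Prime 11) := ⟨by norm_num⟩
    refine orderOf_eq_prime ?_ fun h => b_not_PQ hJ hb hb11 ((hπ' _).1 h)
    rw [← map_pow, show B ^ 11 = 1 from Subtype.ext (b_pow hJ hb hb11), map_one]
  have hconj : ∀ n : ↥(cH z), (n : G) * b * (n : G)⁻¹ ∈ Subgroup.zpowers b →
      (n : G) ∈ Subgroup.normalizer (Subgroup.zpowers b : Set G) := fun n hn => by
    have hmap : (Subgroup.zpowers b).map (MulAut.conj (n : G)).toMonoidHom = Subgroup.zpowers b := by
      refine Subgroup.eq_of_le_of_card_ge ?_ ?_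
      · rw [MonoidHom.map_zpowers, Subgroup.zpowers_le]; exact hn
      · rw [Subgroup.card_map_of_injective (MulAut.conj (n : G)).injective]
    rw [Subgroup.mem_normalizer_iff]
    intro x
    conv_rhs => rw [← hmap]
    exact (Subgroup.mem_map_iff_mem (MulAut.conj (n : G)).injective).symm
  have hker : Nat.card (π.ker.subgroupOf N) = 24 := by
    rw [← card_KK hJ hb hb11]
    refine Nat.card_congr
      { toFun := fun x => ⟨x.1.1.1, (hπ' _).1 x.2, x.1.1.2, ?_⟩
        invFun := fun g => ⟨⟨⟨g.1, g.2.2.1⟩, ⟨g.2.2.1, ?_⟩⟩, (hπ' _).2 g.2.1⟩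
        left_inv := fun _ => rfl
        right_inv := fun _ => rfl }
    · obtain ⟨k, hk⟩ := Subgroup.mem_zpowers_iff.1
        ((Subgroup.mem_normalizer_iff.1 (Subgroup.mem_subgroupOf.1 x.1.2).2 b).1 (Subgroup.mem_zpowers b))
      have hx : π x.1.1 = 1 := x.2
      have h1 : π B ^ (k - 1) = 1 := by
        rw [zpow_sub, zpow_one, ← map_zpow,
          show B ^ k = x.1.1 * B * x.1.1⁻¹ from Subtype.ext (by rw [SubgroupClass.coe_zpow]; exact hk),
          map_mul, map_mul, map_inv, hx]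
        group
      rw [← orderOf_dvd_iff_zpow_eq_one, hord, ← hb11, orderOf_dvd_iff_zpow_eq_one, zpow_sub, zpow_one,
        mul_inv_eq_one, hk] at h1
      exact Subgroup.mem_centralizer_singleton_iff.2 (mul_inv_eq_iff_eq_mul.1 h1)
    · refine hconj ⟨g.1, g.2.2.1⟩ ?_
      show g.1 * b * g.1⁻¹ ∈ _
      rw [Subgroup.mem_centralizer_singleton_iff.1 g.2.2.2, mul_inv_cancel_right]
      exact Subgroup.mem_zpowers b
  have hmap : N.map π = Subgroup.normalizer (Subgroup.zpowers (π B) : Set _) := by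
    refine le_antisymm ?_ fun ψ hψ => ?_
    · rintro _ ⟨h, hh, rfl⟩
      rw [← MonoidHom.map_zpowers]
      refine Subgroup.le_normalizer_map π ⟨h, ?_, rfl⟩
      rw [SetLike.mem_coe, Subgroup.mem_normalizer_iff]
      intro x
      have := Subgroup.mem_normalizer_iff.1 (Subgroup.mem_subgroupOf.1 hh).2 (x : G)
      rw [← hb11] at hord
      have key : ∀ y : ↥(cH z), y ∈ Subgroup.zpowers B ↔ (y : G) ∈ Subgroup.zpowers b := fun y => by
        rw [← Subgroup.mem_map_iff_mem (cH z).subtype_injective, MonoidHom.map_zpowers]; rfl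
      rw [key, key]
      exact this
    · obtain ⟨h, rfl⟩ := hπs ψ
      -- conjugate inside the preimage of the cyclic group
      set L := (Subgroup.zpowers (π B)).comap π with hL
      have hBL : B ∈ L := Subgroup.mem_zpowers _
      have hB' : h * B * h⁻¹ ∈ L := by
        rw [hL, Subgroup.mem_comap, map_mul, map_mul, map_inv]
        exact (Subgroup.mem_normalizer_iff.1 hψ _).1 (Subgroup.mem_zpowers _)
      have hLd : Nat.card L = 3 * 2 ^ 13 * 11 := by
        have := card_eq_card_map_mul π L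
        rw [Subgroup.map_comap_eq_self_of_surjective hπs, Nat.card_zpowers, hord,
          Nat.card_congr (Subgroup.subgroupOfEquivOfLe (Subgroup.ker_le_comap (f := π) (Subgroup.zpowers (π B)) : π.ker ≤ L)).toEquiv]
          at this
        have hk := π.ker.card_mul_index
        rw [Subgroup.index_ker, MonoidHom.range_eq_top.2 hπs, Subgroup.card_top,
          CfsgLib.MathieuAut22.natCard_mulAut_sporM22, card_cH hJ] at hk
        have : Nat.card π.ker = 2 ^ 13 * 3 := Nat.eq_of_mul_eq_mul_right (by norm_num) hk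
        omega
      have hb' : orderOf B = 11 := by rw [← hb11, ← Subgroup.orderOf_coe]
      obtain ⟨n, hn⟩ := CfsgLib.MathieuTwentyTwo.Model.exists_conj_zpowers (G := L) (p := 11) (by norm_num)
        (by rw [hLd]; norm_num) (y := ⟨B, hBL⟩) (w := ⟨h * B * h⁻¹, hB'⟩)
        (by rw [← Subgroup.orderOf_coe]; exact hb')
        (by rw [← Subgroup.orderOf_coe]; exact ((MulAut.conj h).orderOf_eq B).trans hb')
      have hm : (n : ↥(cH z)) * h ∈ N := by
        refine Subgroup.mem_subgroupOf.2 ⟨((n : ↥(cH z)) * h).2, hconj ((n : ↥(cH z)) * h) ?_⟩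
        have e := congrArg (Subgroup.map ((cH z).subtype.comp L.subtype)) hn
        rw [MonoidHom.map_zpowers, MonoidHom.map_zpowers] at e
        refine (le_of_eq e) ?_
        convert Subgroup.mem_zpowers _ using 1
        show _ = ((n : ↥(cH z)) : G) * ((h : G) * b * (h : G)⁻¹) * ((n : ↥(cH z)) : G)⁻¹
        simp [mul_assoc]
      have hnB : π n ∈ N.map π := by
        obtain ⟨k, hk⟩ := Subgroup.mem_zpowers_iff.1 (n.2 : π n ∈ Subgroup.zpowers (π B))
        rw [← hk]
        have hBN : B ∈ N := Subgroup.mem_subgroupOf.2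
          (show b ∈ NN z b from ⟨hb.1, Subgroup.le_normalizer (Subgroup.mem_zpowers b)⟩)
        exact zpow_mem (Subgroup.mem_map_of_mem π hBN) k
      have := mul_mem (inv_mem hnB) ⟨_, hm, rfl⟩
      simpa using this
  have := card_eq_card_map_mul π N
  rw [hmap, card_normalizer_aut hord, hker,
    Nat.card_congr (Subgroup.subgroupOfEquivOfLe (inf_le_left : NN z b ≤ cH z)).toEquiv] at this
  exact this

end CfsgLib.J4Type.Eleven
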