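import Cfsg.Agent.Lib.J4Type.Eleven.Structure
import Cfsg.Agent.Lib.MathieuTwentyTwo.Lines
import Cfsg.Agent.Lib.PGroup.Frattini

/-!
The normaliser of the non-abelian Sylow 11-subgroup: order `2⁴·3·5·11³`, transitive on the non-central
elements, so two classes of elements of order eleven.
-/

set_option autoImplicit false
set_option linter.style.haveILetI false
set_option linter.unusedSectionVars false

namespace CfsgLib.J4Type.Eleven

open Cfsg CfsgLib.J4Type86 CfsgLib.LargeExtra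
open scoped Pointwise

variable {G : Type*} [Group G] [Finite G]

/-- The normaliser of `⟨b⟩`. -/
abbrev NB (b : G) : Subgroup G := Subgroup.normalizer (Subgroup.zpowers b : Set G)

theorem cent_le_NB {b : G} : Subgroup.centralizer ({b} : Set G) ≤ NB b := by
  intro g hg
  have hc : Commute g b := Subgroup.mem_centralizer_singleton_iff.1 hg
  rw [Subgroup.mem_normalizer_iff]
  intro x
  constructor
  · intro hx
    obtain ⟨k, rfl⟩ := Subgroup.mem_zpowers_iff.1 hx
    rw [(hc.zpow_right k).eq, mul_inv_cancel_right]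
    exact zpow_mem (Subgroup.mem_zpowers b) k
  · intro hx
    obtain ⟨k, hk⟩ := Subgroup.mem_zpowers_iff.1 hx
    have e : x = b ^ k := by
      have h' : x = g⁻¹ * (g * x * g⁻¹) * g := by group
      rw [h', ← hk, ((hc.inv_left).zpow_right k).eq, inv_mul_cancel_right]
    rw [e]
    exact zpow_mem (Subgroup.mem_zpowers b) k

variable {z b : G} {P : Subgroup G} (F : Facts z P) (hb : b ∈ cC z P) (hb11 : orderOf b = 11)
include F hb hb11

/-- The subgroup of order `11³` is a Sylow subgroup. -/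
theorem exists_sylow_OO : ∃ S : Sylow 11 G, (S : Subgroup G) = OO b := by
  have : Fact (Nat.Prime 11) := ⟨by norm_num⟩
  refine ⟨Sylow.ofCard (OO b) ?_, rfl⟩
  rw [card_OO F hb hb11, F.card,
    show (86775571046077562880 : ℕ) = 11 ^ 3 * (2 ^ 21 * 3 ^ 3 * 5 * 7 * 23 * 29 * 31 * 37 * 43) by norm_num,
    Nat.factorization_mul (by norm_num) (by norm_num), Finsupp.add_apply,
    Nat.Prime.factorization_pow (by norm_num), Finsupp.single_eq_same,
    Nat.factorization_eq_zero_of_not_dvd (by norm_num)]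

/-- Every 11-subgroup is conjugate into the subgroup of order `11³`. -/
theorem exists_conj_into {H : Subgroup G} (hH : IsPGroup 11 H) : ∃ g : G, ∀ x ∈ H, g * x * g⁻¹ ∈ OO b := by
  have : Fact (Nat.Prime 11) := ⟨by norm_num⟩
  obtain ⟨S, hS⟩ := exists_sylow_OO F hb hb11
  obtain ⟨T, hT⟩ := hH.exists_le_sylow
  obtain ⟨g, hg⟩ := MulAction.exists_smul_eq G T S
  refine ⟨g, fun x hx => ?_⟩
  rw [← hS, ← hg, Sylow.coe_subgroup_smul]
  exact Subgroup.mem_pointwise_smul_iff_inv_smul_mem.mpr (by simpa [mul_assoc] using hT hx)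

/-- The involutions of `C(b)` are conjugate to `z` there. -/
theorem exists_conj_z {v : G} (hv : v ∈ Subgroup.centralizer ({b} : Set G)) (hv2 : orderOf v = 2) :
    ∃ c ∈ Subgroup.centralizer ({b} : Set G), c * v * c⁻¹ = z := by
  classical
  have : Fact (Nat.Prime 2) := ⟨Nat.prime_two⟩
  let Q2 : Subgroup ↥(Subgroup.centralizer ({b} : Set G)) :=
    (CQ z b).subgroupOf (Subgroup.centralizer ({b} : Set G))
  have h8 : Nat.card Q2 = 8 := by
    rw [Nat.card_congr (Subgroup.subgroupOfEquivOfLe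
      (inf_le_right : CQ z b ≤ Subgroup.centralizer ({b} : Set G))).toEquiv, card_CQ F.hyp hb hb11]
  let S : Sylow 2 ↥(Subgroup.centralizer ({b} : Set G)) := Sylow.ofCard Q2 (by
    rw [h8, card_centralizer_b F hb hb11, show (24 * 11 ^ 3 : ℕ) = 2 ^ 3 * 3993 by norm_num,
      Nat.factorization_mul (by norm_num) (by norm_num), Finsupp.add_apply,
      Nat.Prime.factorization_pow Nat.prime_two, Finsupp.single_eq_same,
      Nat.factorization_eq_zero_of_not_dvd (by norm_num : ¬ 2 ∣ 3993)]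
    norm_num)
  set w : ↥(Subgroup.centralizer ({b} : Set G)) := ⟨v, hv⟩
  obtain ⟨T, hT⟩ := (IsPGroup.of_card (n := 1) (G := Subgroup.zpowers w)
    (by rw [Nat.card_zpowers, ← Subgroup.orderOf_coe, hv2, pow_one])).exists_le_sylow
  obtain ⟨g, hg⟩ := MulAction.exists_smul_eq (↥(Subgroup.centralizer ({b} : Set G))) T S
  have hgw : g * w * g⁻¹ ∈ Q2 := by
    show g * w * g⁻¹ ∈ (S : Subgroup _)
    rw [← hg, Sylow.coe_subgroup_smul]
    exact Subgroup.mem_pointwise_smul_iff_inv_smul_mem.mpr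
      (by simpa [mul_assoc] using hT (Subgroup.mem_zpowers w))
  have ho : orderOf ((g : G) * v * (g : G)⁻¹) = 2 := ((MulAut.conj (g : G)).orderOf_eq v).trans hv2
  refine ⟨g, g.2, (CQ_sq F.hyp hb hb11 (Subgroup.mem_subgroupOf.1 hgw) ?_).resolve_left fun e => ?_⟩
  · show (g : G) * v * (g : G)⁻¹ * ((g : G) * v * (g : G)⁻¹) = 1
    rw [← sq, ← ho]
    exact pow_orderOf_eq_one _
  · rw [show (g : G) * v * (g : G)⁻¹ = 1 from e, orderOf_one] at ho
    omega

/-- An element of order three or two of `C(b)` centralises nothing of `O` outside `⟨b⟩`. -/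
theorem mem_zpowers_of_commute {g u : G} (hg : g ∈ Subgroup.centralizer ({b} : Set G))
    (hg23 : orderOf g = 2 ∨ orderOf g = 3) (hu : u ∈ OO b) (hgu : g * u = u * g) : u ∈ Subgroup.zpowers b := by
  classical
  have hgb : g * b = b * g := Subgroup.mem_centralizer_singleton_iff.1 hg
  rcases hg23 with h2 | h3
  · obtain ⟨c, hc, hcg⟩ := exists_conj_z F hb hb11 hg h2
    have hu' : c * u * c⁻¹ ∈ Subgroup.zpowers b := by
      refine OO_inf_DD F hb hb11 (OO_conj hc hu) ⟨mem_cH.2 ?_, OO_le (OO_conj hc hu)⟩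
      rw [← hcg, conj_mul, conj_mul, hgu]
    obtain ⟨k, hk⟩ := Subgroup.mem_zpowers_iff.1 hu'
    have hc' : Commute c⁻¹ b := (show Commute c b from Subgroup.mem_centralizer_singleton_iff.1 hc).inv_left
    have e : u = c⁻¹ * (c * u * c⁻¹) * c := by group
    rw [e, ← hk, (hc'.zpow_right k).eq, inv_mul_cancel_right]
    exact zpow_mem (Subgroup.mem_zpowers b) k
  · set R := OO b ⊓ Subgroup.centralizer ({g} : Set G) with hR
    have hd : Nat.card R ∣ 66 := card_dvd_of_three F h3 hb11 hgb R fun r hr =>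
      ⟨Subgroup.mem_centralizer_singleton_iff.1 hr.2, comm_b hr.1⟩
    obtain ⟨k, -, hk⟩ := (Nat.dvd_prime_pow (by norm_num : Nat.Prime 11)).1
      ((card_OO F hb hb11) ▸ (Subgroup.card_dvd_of_le (inf_le_left : R ≤ OO b)) : Nat.card R ∣ 11 ^ 3)
    rw [hk] at hd
    have hk1 : k ≤ 1 := by
      by_contra hgt
      exact absurd ((pow_dvd_pow 11 (show 2 ≤ k by omega)).trans hd) (by norm_num)
    have hle : Subgroup.zpowers b ≤ R :=
      Subgroup.zpowers_le.2 ⟨b_mem_OO F hb hb11, Subgroup.mem_centralizer_singleton_iff.2 hgb.symm⟩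
    have he : Subgroup.zpowers b = R := Subgroup.eq_of_le_of_card_ge hle (by
      rw [hk, Nat.card_zpowers, hb11]
      exact (Nat.pow_le_pow_right (by norm_num) hk1).trans (pow_one 11).le)
    rw [he]
    exact ⟨hu, Subgroup.mem_centralizer_singleton_iff.2 hgu.symm⟩

theorem card_NB : Nat.card ↥(NB b) = 10 * (24 * 11 ^ 3) := by
  classical
  set C := Subgroup.centralizer ({b} : Set G) with hC
  have hidx : C.relIndex (NB b) ≤ 10 := by
    let φ : NB b →* MulAut (Subgroup.zpowers b) := (Subgroup.zpowers b).normalizerMonoidHom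
    have hker : φ.ker = C.subgroupOf (NB b) := by
      ext n
      rw [MonoidHom.mem_ker, Subgroup.mem_subgroupOf, hC, Subgroup.mem_centralizer_singleton_iff]
      constructor
      · intro h
        have := congrArg Subtype.val (DFunLike.congr_fun h ⟨b, Subgroup.mem_zpowers b⟩)
        exact mul_inv_eq_iff_eq_mul.1 this
      · intro h
        refine MulEquiv.ext fun x => Subtype.ext ?_
        obtain ⟨k, hk⟩ := Subgroup.mem_zpowers_iff.1 x.2
        show (n : G) * x * (n : G)⁻¹ = x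
        rw [← hk, ((show Commute (n : G) b from h).zpow_right k).eq, mul_inv_cancel_right]
    rw [Subgroup.relIndex, ← hker, Subgroup.index_ker]
    refine (Nat.le_of_dvd Nat.card_pos (Subgroup.card_subgroup_dvd_card _)).trans (le_of_eq ?_)
    rw [IsCyclic.card_mulAut, Nat.card_zpowers, hb11]
    decide
  have h10 : C.relIndex (NN z b) = 10 := by
    have e : (C.subgroupOf (NN z b)) = (DD z b).subgroupOf (NN z b) := by
      ext n
      simp only [Subgroup.mem_subgroupOf]
      exact ⟨fun h => ⟨n.2.1, h⟩, fun h => h.2⟩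
    have h := ((DD z b).subgroupOf (NN z b)).card_mul_index
    rw [Nat.card_congr (Subgroup.subgroupOfEquivOfLe
      (inf_le_inf_left _ cent_le_NB : DD z b ≤ NN z b)).toEquiv, card_DD F.hyp hb hb11,
      card_NN F.hyp hb hb11] at h
    rw [Subgroup.relIndex, e]
    omega
  have hge : 10 ≤ C.relIndex (NB b) := h10 ▸ Subgroup.relIndex_le_of_le_right inf_le_right
    Subgroup.index_ne_zero_of_finite
  have h := (C.subgroupOf (NB b)).card_mul_index
  rw [Nat.card_congr (Subgroup.subgroupOfEquivOfLe cent_le_NB).toEquiv, card_centralizer_b F hb hb11] at h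
  rw [← h, show (C.subgroupOf (NB b)).index = C.relIndex (NB b) from rfl, le_antisymm hidx hge]
  norm_num

theorem OO_normal_NB {n x : G} (hn : n ∈ NB b) (hx : x ∈ OO b) : n * x * n⁻¹ ∈ OO b := by
  have : Fact (Nat.Prime 11) := ⟨by norm_num⟩
  obtain ⟨k, hk⟩ : ∃ k, x ^ 11 ^ k = 1 := by
    refine ⟨3, ?_⟩
    have h : (⟨x, hx⟩ : ↥(OO b)) ^ Nat.card ↥(OO b) = 1 := pow_card_eq_one'
    rw [card_OO F hb hb11] at h
    exact congrArg Subtype.val h
  refine mem_OO_of_pow F hb hb11 (Subgroup.mem_centralizer_singleton_iff.2 ?_) (k := k)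
    (by rw [conj_pow, hk, mul_one, mul_inv_cancel])
  have hmem : n⁻¹ * b * n ∈ Subgroup.zpowers b := by
    refine (Subgroup.mem_normalizer_iff.1 hn _).2 ?_
    rw [show n * (n⁻¹ * b * n) * n⁻¹ = b by group]
    exact Subgroup.mem_zpowers b
  obtain ⟨i, hi⟩ := Subgroup.mem_zpowers_iff.1 hmem
  have hxb : Commute x (n⁻¹ * b * n) := hi ▸ (show Commute x b from comm_b hx).zpow_right i
  calc n * x * n⁻¹ * b = n * (x * (n⁻¹ * b * n)) * n⁻¹ := by group
    _ = n * (n⁻¹ * b * n * x) * n⁻¹ := by rw [hxb.eq]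
    _ = b * (n * x * n⁻¹) := by group

variable (hna : ∃ H : Subgroup G, IsPGroup 11 H ∧ ∃ a ∈ H, ∃ c ∈ H, a * c ≠ c * a)
include hna

theorem OO_noncomm : ∃ a ∈ OO b, ∃ c ∈ OO b, a * c ≠ c * a := by
  obtain ⟨H, hH, a, ha, c, hc, hac⟩ := hna
  obtain ⟨g, hg⟩ := exists_conj_into F hb hb11 hH
  refine ⟨_, hg a ha, _, hg c hc, fun h => hac ?_⟩
  rw [conj_mul, conj_mul] at h
  exact mul_left_cancel (mul_right_cancel h)

theorem central_OO {x : G} (hx : x ∈ OO b) (hc : ∀ y ∈ OO b, x * y = y * x) : x ∈ Subgroup.zpowers b := by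
  classical
  have : Fact (Nat.Prime 11) := ⟨by norm_num⟩
  set O := OO b with hO
  set Z := Subgroup.center ↥O with hZ
  obtain ⟨i, hi, hZi⟩ := (Nat.dvd_prime_pow (by norm_num : Nat.Prime 11)).1
    ((card_OO F hb hb11) ▸ Subgroup.card_subgroup_dvd_card Z : Nat.card Z ∣ 11 ^ 3)
  have hi2 : i ≤ 1 := by
    by_contra hgt
    obtain ⟨a, ha, c, hc', hac⟩ := OO_noncomm F hb hb11 hna
    have h := Subgroup.card_eq_card_quotient_mul_card_subgroup Z
    have hOc : Nat.card O = 11 ^ 3 := card_OO F hb hb11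
    rw [hZi, hOc] at h
    have hd : Nat.card (↥O ⧸ Z) ∣ 11 := by
      rcases (show i = 2 ∨ i = 3 by omega) with rfl | rfl
      · exact ⟨1, by norm_num at h ⊢; omega⟩
      · exact ⟨11, by norm_num at h ⊢; omega⟩
    have : IsCyclic (↥O ⧸ Z) := isCyclic_of_card_dvd_prime hd
    have := (QuotientGroup.mk' Z).isMulCommutative_of_isCyclic_of_ker_le_center (by rw [QuotientGroup.ker_mk'])
    exact hac (congrArg Subtype.val (this.is_comm.comm (⟨a, ha⟩ : O) ⟨c, hc'⟩))
  have hle : (Subgroup.zpowers b).subgroupOf O ≤ Z := fun y hy => Subgroup.mem_center_iff.2 fun g => by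
    obtain ⟨k, hk⟩ := Subgroup.mem_zpowers_iff.1 (Subgroup.mem_subgroupOf.1 hy)
    apply Subtype.ext
    show (g : G) * y = y * g
    rw [← hk]
    exact ((show Commute (g : G) b from comm_b g.2).zpow_right k).eq
  have he : (Subgroup.zpowers b).subgroupOf O = Z := by
    refine Subgroup.eq_of_le_of_card_ge hle ?_
    rw [hZi, Nat.card_congr (Subgroup.subgroupOfEquivOfLe
      (Subgroup.zpowers_le.2 (b_mem_OO F hb hb11))).toEquiv, Nat.card_zpowers, hb11]
    exact (Nat.pow_le_pow_right (by norm_num) hi2).trans (pow_one 11).le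
  have hxZ : (⟨x, hx⟩ : O) ∈ Z := Subgroup.mem_center_iff.2 fun g => Subtype.ext (hc g g.2).symm
  rw [← he] at hxZ
  exact hxZ

theorem pow_eleven {x : G} (hx : x ∈ OO b) : x ^ 11 = 1 := by
  classical
  set K := (Subgroup.zpowers b).subgroupOf (OO b) with hK
  have hzz := (extraAt F.hyp).sq_one
  have hzi := (extraAt F.hyp).inv_eq
  -- the eleventh power lies in `⟨b⟩`
  have hpow : x ^ 11 ∈ Subgroup.zpowers b := by
    refine central_OO F hb hb11 hna (pow_mem hx 11) fun y hy => ?_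
    obtain ⟨k, hk⟩ := Subgroup.mem_zpowers_iff.1 (comm_mod F hb hb11 hx hy)
    have hxy : y⁻¹ * x * y = x * b ^ k := by
      have e : x * y = y * x * b ^ k := by rw [hk, mul_inv_cancel_left]
      rw [mul_assoc, e, ← mul_assoc, ← mul_assoc, inv_mul_cancel, one_mul]
    have hb11' : (b ^ k) ^ 11 = 1 := by
      rw [← zpow_natCast, ← zpow_mul, mul_comm, zpow_mul, zpow_natCast, ← hb11, pow_orderOf_eq_one, one_zpow]
    have e : (y⁻¹ * x * y) ^ 11 = (x * b ^ k) ^ 11 := by rw [hxy]
    rw [((show Commute x b from comm_b hx).zpow_right k).mul_pow, hb11', mul_one] at e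
    have e' : (y⁻¹ * x * y) ^ 11 = y⁻¹ * x ^ 11 * y := by
      rw [show y⁻¹ * x * y = y⁻¹ * x * y⁻¹⁻¹ by rw [inv_inv], conj_pow, inv_inv]
    rw [e'] at e
    calc x ^ 11 * y = y * (y⁻¹ * x ^ 11 * y) := by group
      _ = y * x ^ 11 := by rw [e]
  obtain ⟨m, hm⟩ := Subgroup.mem_zpowers_iff.1 hpow
  obtain ⟨k, hk⟩ := Subgroup.mem_zpowers_iff.1 (inv_mod F hb hb11 hx)
  have hzb : Commute z b := (z_comm_b F.hyp hb hb11).symm
  have hb11' : (b ^ k) ^ 11 = 1 := by
    rw [← zpow_natCast, ← zpow_mul, mul_comm, zpow_mul, zpow_natCast, ← hb11, pow_orderOf_eq_one, one_zpow]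
  have h1 : (z * x * z⁻¹) ^ 11 = (x ^ 11)⁻¹ := by
    rw [show z * x * z⁻¹ = b ^ k * x⁻¹ by rw [hk, mul_inv_cancel_right],
      ((show Commute b x from (comm_b hx).symm).zpow_left k).inv_right.mul_pow, hb11', one_mul, inv_pow]
  rw [conj_pow, ← hm, (hzb.zpow_right m).eq, mul_inv_cancel_right] at h1
  rw [← hm, ← orderOf_dvd_iff_zpow_eq_one, hb11]
  have h2 : b ^ (m + m) = 1 := by
    rw [zpow_add]
    nth_rw 1 [h1]
    exact inv_mul_cancel _
  rw [← orderOf_dvd_iff_zpow_eq_one, hb11] at h2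
  omega

theorem normalizer_OO : Subgroup.normalizer (OO b : Set G) = NB b := by
  refine le_antisymm (fun n hn => ?_) fun n hn => ?_
  · have hb' : n * b * n⁻¹ ∈ Subgroup.zpowers b := by
      refine central_OO F hb hb11 hna ((Subgroup.mem_normalizer_iff.1 hn b).1 (b_mem_OO F hb hb11)) fun y hy => ?_
      have hy' : n⁻¹ * y * n ∈ OO b := by
        refine (Subgroup.mem_normalizer_iff.1 hn _).2 ?_
        rw [show n * (n⁻¹ * y * n) * n⁻¹ = y by group]
        exact hy
      calc n * b * n⁻¹ * y = n * (b * (n⁻¹ * y * n)) * n⁻¹ := by group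
        _ = n * (n⁻¹ * y * n * b) * n⁻¹ := by rw [(comm_b hy').symm]
        _ = y * (n * b * n⁻¹) := by group
    have hmap : (Subgroup.zpowers b).map (MulAut.conj n).toMonoidHom = Subgroup.zpowers b := by
      refine Subgroup.eq_of_le_of_card_ge ?_ ?_
      · rw [MonoidHom.map_zpowers, Subgroup.zpowers_le]; exact hb'
      · rw [Subgroup.card_map_of_injective (MulAut.conj n).injective]
    rw [Subgroup.mem_normalizer_iff]
    intro x
    conv_rhs => rw [← hmap]
    exact (Subgroup.mem_map_iff_mem (MulAut.conj n).injective).symm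
  · rw [Subgroup.mem_normalizer_iff]
    refine fun x => ⟨fun hx => OO_normal_NB F hb hb11 hn hx, fun hx => ?_⟩
    have := OO_normal_NB F hb hb11 (inv_mem hn) hx
    simpa [mul_assoc] using this

theorem card_stab {u : G} (hu : u ∈ OO b) (hub : u ∉ Subgroup.zpowers b) :
    Nat.card ↥(NB b ⊓ Subgroup.centralizer ({u} : Set G)) ∣ 242 := by
  classical
  set C := Subgroup.centralizer ({b} : Set G) with hC
  set T := NB b ⊓ Subgroup.centralizer ({u} : Set G) with hT
  have hu1 : u ≠ 1 := fun e => hub (e ▸ one_mem _)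
  have hu11 : orderOf u = 11 := by
    have : Fact (Nat.Prime 11) := ⟨by norm_num⟩
    exact orderOf_eq_prime (pow_eleven F hb hb11 hna hu) hu1
  set S := T ⊓ C with hS
  have hSC : Nat.card S ∣ 24 * 11 ^ 3 := card_centralizer_b F hb hb11 ▸ Subgroup.card_dvd_of_le inf_le_right
  have hS23 : ∀ p, p = 2 ∨ p = 3 → ¬ p ∣ Nat.card S := by
    intro p hp hdvd
    have : Fact p.Prime := ⟨by rcases hp with rfl | rfl <;> norm_num⟩
    obtain ⟨g, hg⟩ := exists_prime_orderOf_dvd_card' (G := S) p hdvd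
    exact hub (mem_zpowers_of_commute F hb hb11 g.2.2 (by rw [Subgroup.orderOf_coe, hg]; exact hp) hu
      (Subgroup.mem_centralizer_singleton_iff.1 g.2.1.2))
  have hS11 : Nat.card S ∣ 11 ^ 3 := by
    refine Nat.Coprime.dvd_of_dvd_mul_left ?_ hSC
    have h2 : Nat.Coprime (Nat.card S) 2 :=
      ((Nat.Prime.coprime_iff_not_dvd Nat.prime_two).2 (hS23 2 (Or.inl rfl))).symm
    have h3 : Nat.Coprime (Nat.card S) 3 :=
      ((Nat.Prime.coprime_iff_not_dvd Nat.prime_three).2 (hS23 3 (Or.inr rfl))).symm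
    rw [show (24 : ℕ) = 2 ^ 3 * 3 from rfl]
    exact (h2.pow_right 3).mul_right h3
  have hS121 : Nat.card S ∣ 11 ^ 2 := by
    obtain ⟨k, hk, hSk⟩ := (Nat.dvd_prime_pow (by norm_num : Nat.Prime 11)).1 hS11
    have hk3 : k ≠ 3 := by
      rintro rfl
      have hle : S ≤ OO b := fun g hg => mem_OO_of_pow F hb hb11 hg.2 (k := 3) (by
        have h : (⟨g, hg⟩ : S) ^ Nat.card S = 1 := pow_card_eq_one'
        rw [hSk] at h
        exact congrArg Subtype.val h)
      have he : S = OO b := Subgroup.eq_of_le_of_card_ge hle (by rw [hSk, card_OO F hb hb11])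
      exact hub (central_OO F hb hb11 hna hu fun y hy =>
        (Subgroup.mem_centralizer_singleton_iff.1 (show y ∈ S from he ▸ hy).1.2).symm)
    rw [hSk]
    exact pow_dvd_pow 11 (by omega)
  have hidx : C.relIndex T ∣ 10 := by
    let φ : NB b →* MulAut (Subgroup.zpowers b) := (Subgroup.zpowers b).normalizerMonoidHom
    let ψ : T →* MulAut (Subgroup.zpowers b) := φ.comp (Subgroup.inclusion inf_le_left)
    have hker : ψ.ker = C.subgroupOf T := by
      ext n
      rw [MonoidHom.mem_ker, Subgroup.mem_subgroupOf, hC, Subgroup.mem_centralizer_singleton_iff]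
      constructor
      · intro h
        have := congrArg Subtype.val (DFunLike.congr_fun h ⟨b, Subgroup.mem_zpowers b⟩)
        exact mul_inv_eq_iff_eq_mul.1 this
      · intro h
        refine MulEquiv.ext fun x => Subtype.ext ?_
        obtain ⟨k, hk⟩ := Subgroup.mem_zpowers_iff.1 x.2
        show (n : G) * x * (n : G)⁻¹ = x
        rw [← hk, ((show Commute (n : G) b from h).zpow_right k).eq, mul_inv_cancel_right]
    rw [Subgroup.relIndex, ← hker, Subgroup.index_ker]
    refine (Subgroup.card_subgroup_dvd_card _).trans (dvd_of_eq ?_)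
    rw [IsCyclic.card_mulAut, Nat.card_zpowers, hb11]
    decide
  have h5 : ¬ 5 ∣ Nat.card T := by
    intro h5
    have : Fact (Nat.Prime 5) := ⟨by norm_num⟩
    obtain ⟨g, hg⟩ := exists_prime_orderOf_dvd_card' (G := T) 5 h5
    refine F.five g (by rw [Subgroup.orderOf_coe]; exact hg) ?_
    rw [← hu11]
    exact Subgroup.orderOf_dvd_natCard _
      (Subgroup.mem_centralizer_singleton_iff.2 (Subgroup.mem_centralizer_singleton_iff.1 g.2.2).symm)
  have h := (C.subgroupOf T).card_mul_index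
  rw [← Subgroup.inf_subgroupOf_left, Nat.card_congr (Subgroup.subgroupOfEquivOfLe
    (inf_le_left : T ⊓ C ≤ T)).toEquiv] at h
  rw [Subgroup.inf_subgroupOf_left, show (C.subgroupOf T).index = C.relIndex T from rfl] at h
  rw [← h, show (242 : ℕ) = 11 ^ 2 * 2 from rfl]
  refine Nat.mul_dvd_mul hS121 (Nat.Coprime.dvd_of_dvd_mul_left ?_ (show C.relIndex T ∣ 5 * 2 from hidx))
  exact ((Nat.Prime.coprime_iff_not_dvd (by norm_num)).2 fun h' => h5 (h ▸ Dvd.dvd.mul_left h' _)).symm

/-- The normaliser is transitive on the non-central elements, with stabilisers of order 242. -/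
theorem transitive {u : G} (hu : u ∈ OO b) (hub : u ∉ Subgroup.zpowers b) :
    (∀ v ∈ OO b, v ∉ Subgroup.zpowers b → ∃ n ∈ NB b, n * u * n⁻¹ = v) ∧
      Nat.card ↥(NB b ⊓ Subgroup.centralizer ({u} : Set G)) = 242 := by
  classical
  have hT := Nat.le_of_dvd (by norm_num) (card_stab F hb hb11 hna hu hub)
  have h := CfsgLib.MathieuTwentyTwo.ncard_conj_image (NB b) u
  rw [card_NB F hb hb11] at h
  have hsub : (fun r => r * u * r⁻¹) '' (NB b : Set G) ⊆ (OO b : Set G) \ (Subgroup.zpowers b : Set G) := by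
    rintro _ ⟨n, hn, rfl⟩
    exact ⟨OO_normal_NB F hb hb11 hn hu, fun h' => hub ((Subgroup.mem_normalizer_iff.1 hn u).2 h')⟩
  have hcard : ((OO b : Set G) \ (Subgroup.zpowers b : Set G)).ncard = 1320 := by
    rw [Set.ncard_sdiff (Subgroup.zpowers_le.2 (b_mem_OO F hb hb11)), ← Nat.card_coe_set_eq,
      ← Nat.card_coe_set_eq]
    show Nat.card ↥(OO b) - Nat.card ↥(Subgroup.zpowers b) = 1320
    rw [card_OO F hb hb11, Nat.card_zpowers, hb11]
    norm_num
  have hle := Set.ncard_le_ncard hsub (Set.toFinite _)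
  rw [hcard] at hle
  set a := ((fun r => r * u * r⁻¹) '' (NB b : Set G)).ncard
  set t := Nat.card ↥(NB b ⊓ Subgroup.centralizer ({u} : Set G))
  have ha : a = 1320 ∧ t = 242 := by
    have h1 : a * t ≤ 1320 * t := Nat.mul_le_mul_right t hle
    have ht : t = 242 := by omega
    rw [ht] at h
    omega
  refine ⟨fun v hv hvb => ?_, ha.2⟩
  have heq := Set.eq_of_subset_of_ncard_le hsub (by rw [hcard]; exact ha.1.ge) (Set.toFinite _)
  obtain ⟨n, hn, hnv⟩ := heq.ge ⟨hv, hvb⟩
  exact ⟨n, hn, hnv⟩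

theorem exists_noncentral : ∃ u ∈ OO b, u ∉ Subgroup.zpowers b := by
  obtain ⟨a, ha, c, hc, hac⟩ := OO_noncomm F hb hb11 hna
  refine ⟨a, ha, fun h => hac ?_⟩
  obtain ⟨k, rfl⟩ := Subgroup.mem_zpowers_iff.1 h
  exact (((show Commute c b from comm_b hc).zpow_right k).eq).symm

/-- An involution inverting `b` and centralising `z`. -/
theorem exists_inverting : ∃ τ ∈ NN z b, τ * τ = 1 ∧ τ * b ≠ b * τ := by
  classical
  obtain ⟨u, hu, hub⟩ := exists_noncentral F hb hb11 hna
  obtain ⟨-, hT⟩ := transitive F hb hb11 hna hu hub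
  have : Fact (Nat.Prime 2) := ⟨Nat.prime_two⟩
  obtain ⟨⟨s, hs⟩, hs2⟩ := exists_prime_orderOf_dvd_card'
    (G := ↥(NB b ⊓ Subgroup.centralizer ({u} : Set G))) 2 (by rw [hT]; norm_num)
  rw [Subgroup.orderOf_mk] at hs2
  set C := Subgroup.centralizer ({b} : Set G) with hC
  have hsC : s ∉ C := fun h => hub (mem_zpowers_of_commute F hb hb11 h (Or.inl hs2) hu
    (Subgroup.mem_centralizer_singleton_iff.1 hs.2))
  have hss : s * s = 1 := by rw [← sq, ← hs2]; exact pow_orderOf_eq_one s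
  -- `s` permutes the conjugates of `z` in `C(b)`
  have hnorm : ∀ c ∈ C, s * c * s⁻¹ ∈ C := by
    intro c hc
    obtain ⟨i, hi⟩ := Subgroup.mem_zpowers_iff.1
      ((Subgroup.mem_normalizer_iff.1 hs.1 b).1 (Subgroup.mem_zpowers b))
    have hsi : s⁻¹ = s := inv_eq_of_mul_eq_one_right hss
    have hb' : b = s * b ^ i * s⁻¹ := by
      rw [hi, hsi, ← mul_assoc s (s * b) s, ← mul_assoc s s b, hss, one_mul, mul_assoc, hss, mul_one]
    rw [hC, Subgroup.mem_centralizer_singleton_iff]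
    rw [hb', conj_mul, conj_mul,
      ((show Commute c b from Subgroup.mem_centralizer_singleton_iff.1 hc).zpow_right i).eq]
  let X : Set G := (fun r => r * z * r⁻¹) '' (C : Set G)
  have hX : X.ncard = 121 := by
    have h := CfsgLib.MathieuTwentyTwo.ncard_conj_image C z
    rw [inf_comm, card_DD F.hyp hb hb11, card_centralizer_b F hb hb11] at h
    exact Nat.eq_of_mul_eq_mul_right (by norm_num : 0 < 264) h
  have hzz := (extraAt F.hyp).sq_one
  have hmaps : ∀ x ∈ X, s * x * s⁻¹ ∈ X := by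
    rintro _ ⟨r, hr, rfl⟩
    have h1 : s * (r * z * r⁻¹) * s⁻¹ ∈ C :=
      hnorm _ (C.mul_mem (C.mul_mem hr (z_mem_CQ F.hyp hb).2) (C.inv_mem hr))
    have h2 : orderOf (s * (r * z * r⁻¹) * s⁻¹) = 2 := by
      rw [show s * (r * z * r⁻¹) * s⁻¹ = (s * r) * z * (s * r)⁻¹ by group]
      exact ((MulAut.conj (s * r)).orderOf_eq z).trans F.hyp.1
    obtain ⟨g, hg, hgz⟩ := exists_conj_z F hb hb11 h1 h2
    refine ⟨g⁻¹, inv_mem hg, ?_⟩
    show g⁻¹ * z * g⁻¹⁻¹ = _
    conv_lhs => rw [← hgz]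
    group
  have hsi : s⁻¹ = s := inv_eq_of_mul_eq_one_right hss
  let σ : Equiv.Perm X :=
    { toFun := fun x => ⟨s * x.1 * s⁻¹, hmaps _ x.2⟩
      invFun := fun x => ⟨s * x.1 * s⁻¹, hmaps _ x.2⟩
      left_inv := fun x => Subtype.ext (by
        show s * (s * x.1 * s⁻¹) * s⁻¹ = x.1
        rw [hsi, ← mul_assoc s (s * x.1) s, ← mul_assoc s s x.1, hss, one_mul, mul_assoc, hss, mul_one])
      right_inv := fun x => Subtype.ext (by
        show s * (s * x.1 * s⁻¹) * s⁻¹ = x.1
        rw [hsi, ← mul_assoc s (s * x.1) s, ← mul_assoc s s x.1, hss, one_mul, mul_assoc, hss, mul_one]) }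
  have := Fintype.ofFinite X
  obtain ⟨⟨x, r, hr, rfl⟩, hfix⟩ := Equiv.Perm.exists_fixed_point_of_prime (p := 2) (n := 1)
    (by rw [← Nat.card_eq_fintype_card, Nat.card_coe_set_eq, hX]; norm_num) (σ := σ)
    (by rw [pow_one, sq]; exact Equiv.ext σ.left_inv)
  have hfix' : s * (r * z * r⁻¹) * s⁻¹ = r * z * r⁻¹ := congrArg Subtype.val hfix
  have hrN : r ∈ NB b := cent_le_NB hr
  refine ⟨r⁻¹ * s * r, ⟨mem_cH.2 ?_, (NB b).mul_mem ((NB b).mul_mem ((NB b).inv_mem hrN) hs.1) hrN⟩, ?_, fun h => hsC ?_⟩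
  · calc r⁻¹ * s * r * z = r⁻¹ * (s * (r * z * r⁻¹)) * r := by group
      _ = r⁻¹ * (r * z * r⁻¹ * s) * r := by rw [mul_inv_eq_iff_eq_mul.1 hfix']
      _ = z * (r⁻¹ * s * r) := by group
  · rw [show r⁻¹ * s * r * (r⁻¹ * s * r) = r⁻¹ * (s * s) * r by group, hss]
    group
  · have h1 : r⁻¹ * s * r ∈ C := Subgroup.mem_centralizer_singleton_iff.2 h
    have := C.mul_mem (C.mul_mem hr h1) (C.inv_mem hr)
    rwa [show r * (r⁻¹ * s * r) * r⁻¹ = s by group] at this

/-- The two classes. -/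
theorem classes {t : G} (ht : orderOf t = 2) (hzt : ¬ IsConj z t)
    (ht11 : 11 ∣ Nat.card ↥(Subgroup.centralizer ({t} : Set G))) :
    ∃ u : G, orderOf u = 11 ∧ ¬ IsConj b u ∧ ∀ w : G, orderOf w = 11 → IsConj w b ∨ IsConj w u := by
  classical
  have : Fact (Nat.Prime 11) := ⟨by norm_num⟩
  obtain ⟨u, hu, hub⟩ := exists_noncentral F hb hb11 hna
  obtain ⟨htr, -⟩ := transitive F hb hb11 hna hu hub
  have hall : ∀ w : G, orderOf w = 11 → IsConj w b ∨ IsConj w u := by
    intro w hw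
    obtain ⟨g, hg⟩ := exists_conj_into F hb hb11 (IsPGroup.of_card (n := 1)
      (by rw [Nat.card_zpowers, hw, pow_one] : Nat.card (Subgroup.zpowers w) = 11 ^ 1))
    have hgw := hg w (Subgroup.mem_zpowers w)
    by_cases hzp : g * w * g⁻¹ ∈ Subgroup.zpowers b
    · left
      set w' := g * w * g⁻¹
      have hne : w' ≠ 1 := fun e => by
        rw [mul_inv_eq_one, mul_eq_left] at e
        rw [e, orderOf_one] at hw
        omega
      -- the normaliser is transitive on `⟨b⟩`
      set N := NB b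
      have h := CfsgLib.MathieuTwentyTwo.ncard_conj_image N b
      have hNC : N ⊓ Subgroup.centralizer ({b} : Set G) = Subgroup.centralizer ({b} : Set G) :=
        inf_eq_right.2 cent_le_NB
      rw [hNC, card_centralizer_b F hb hb11, card_NB F hb hb11] at h
      have h10 := Nat.eq_of_mul_eq_mul_right (by norm_num : 0 < 24 * 11 ^ 3) h
      have hsub : (fun r => r * b * r⁻¹) '' (N : Set G) ⊆ (Subgroup.zpowers b : Set G) \ {1} := by
        rintro _ ⟨n, hn, rfl⟩
        refine ⟨(Subgroup.mem_normalizer_iff.1 hn b).1 (Subgroup.mem_zpowers b), fun e => ?_⟩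
        rw [Set.mem_singleton_iff, mul_inv_eq_one, mul_eq_left] at e
        exact b_ne F.hyp hb hb11 e
      have heq := Set.eq_of_subset_of_ncard_le hsub (by
        rw [h10, Set.ncard_sdiff_singleton_of_mem (Subgroup.one_mem _), ← Nat.card_coe_set_eq]
        show Nat.card ↥(Subgroup.zpowers b) - 1 ≤ 10
        rw [Nat.card_zpowers, hb11]) (Set.toFinite _)
      obtain ⟨n, -, hn⟩ := heq.ge ⟨hzp, hne⟩
      exact (isConj_iff.2 ⟨g, rfl⟩).trans (isConj_iff.2 ⟨n, hn⟩).symm
    · right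
      obtain ⟨n, -, hn⟩ := htr _ hgw hzp
      exact (isConj_iff.2 ⟨g, rfl⟩).trans (isConj_iff.2 ⟨n, hn⟩).symm
  refine ⟨u, orderOf_eq_prime (pow_eleven F hb hb11 hna hu) fun e => hub (e ▸ one_mem _), fun hbu => ?_, hall⟩
  -- otherwise every involution commuting with an element of order eleven would be conjugate to `z`
  obtain ⟨w, hw⟩ := exists_prime_orderOf_dvd_card' (G := ↥(Subgroup.centralizer ({t} : Set G))) 11 ht11
  have hwb : IsConj (w : G) b := by
    rcases hall w (by rw [Subgroup.orderOf_coe]; exact hw) with h | h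
    exacts [h, h.trans hbu.symm]
  obtain ⟨g, hg⟩ := isConj_iff.1 hwb
  have htC : g * t * g⁻¹ ∈ Subgroup.centralizer ({b} : Set G) := by
    rw [Subgroup.mem_centralizer_singleton_iff, ← hg, conj_mul, conj_mul,
      Subgroup.mem_centralizer_singleton_iff.1 w.2]
  obtain ⟨c, -, hc⟩ := exists_conj_z F hb hb11 htC (((MulAut.conj g).orderOf_eq t).trans ht)
  refine hzt (IsConj.symm (isConj_iff.2 ⟨c * g, ?_⟩))
  rw [← hc]
  group

end CfsgLib.J4Type.Eleven
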