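import Cfsg.Agent.Lib.J4Type.Eleven.Local
import Cfsg.Agent.Lib.J4Type86.ThreeClass25
import Cfsg.Agent.Lib.Involutions.BrauerSuzuki
import Cfsg.Agent.Lib.Involutions.Isolated
import Cfsg.Agent.Lib.PCore.Basic
import Mathlib.GroupTheory.FixedPointFree

/-!
The centraliser of an element of order eleven central in a Sylow subgroup: order `11³ · 24`, with a normal
Sylow 11-subgroup on whose quotient by `⟨b⟩` the involution `z` acts as inversion.
-/

set_option autoImplicit false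
set_option linter.style.haveILetI false
set_option linter.unusedSectionVars false

namespace CfsgLib.J4Type.Eleven

open Cfsg CfsgLib.J4Type86 CfsgLib.LargeExtra
open scoped Pointwise

variable {G : Type*} [Group G] [Finite G]

/-- What is used from the global structure of a group of Janko-four type. -/
structure Facts (z : G) (P : Subgroup G) : Prop where
  hyp : IsOfJankoFourTypeWith z P
  card : Nat.card G = 86775571046077562880
  five : ∀ x : G, orderOf x = 5 → ¬ 11 ∣ Nat.card (Subgroup.centralizer ({x} : Set G))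
  seven : ∀ x : G, orderOf x = 7 → ¬ 11 ∣ Nat.card (Subgroup.centralizer ({x} : Set G))
  three : ∀ x y : G, orderOf x = 3 → orderOf y = 3 → IsConj x y
  normalizer_le : Subgroup.normalizer (P : Set G) ≤ cH z

/-- The odd core of the centraliser. -/
abbrev OO (b : G) : Subgroup G :=
  (pPrimeCore 2 ↥(Subgroup.centralizer ({b} : Set G))).map (Subgroup.centralizer ({b} : Set G)).subtype

theorem OO_le {b : G} : OO b ≤ Subgroup.centralizer ({b} : Set G) := Subgroup.map_subtype_le _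

theorem OO_conj {b : G} {g x : G} (hg : g ∈ Subgroup.centralizer ({b} : Set G)) (hx : x ∈ OO b) :
    g * x * g⁻¹ ∈ OO b := by
  obtain ⟨y, hy, rfl⟩ := hx
  exact ⟨⟨g, hg⟩ * y * ⟨g, hg⟩⁻¹, (inferInstance : (pPrimeCore 2 _).Normal).conj_mem y hy _, rfl⟩

theorem OO_odd (b : G) : Odd (Nat.card ↥(OO b)) := by
  rw [Subgroup.card_map_of_injective (Subgroup.subtype_injective _)]
  exact Nat.coprime_two_right.mp CfsgLib.PCore.pPrimeCore_coprime

theorem comm_b {b x : G} (hx : x ∈ OO b) : x * b = b * x :=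
  Subgroup.mem_centralizer_singleton_iff.1 (OO_le hx)

variable {z b : G} {P : Subgroup G} (F : Facts z P) (hb : b ∈ cC z P) (hb11 : orderOf b = 11)
include F hb hb11

theorem z_mem_DD : z ∈ DD z b :=
  ⟨mem_cH.2 rfl, (z_mem_CQ F.hyp hb).2⟩

theorem b_mem_OO : b ∈ OO b := by
  refine ⟨⟨b, Subgroup.mem_centralizer_singleton_iff.2 rfl⟩, ?_, rfl⟩
  refine CfsgLib.PCore.le_pPrimeCore
    (N := (Subgroup.zpowers b).subgroupOf (Subgroup.centralizer ({b} : Set G))) ⟨fun x hx g => ?_⟩ ?_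
    (Subgroup.mem_subgroupOf.2 (Subgroup.mem_zpowers b))
  · obtain ⟨k, hk⟩ := Subgroup.mem_zpowers_iff.1 (Subgroup.mem_subgroupOf.1 hx)
    rw [Subgroup.mem_subgroupOf, Subgroup.coe_mul, Subgroup.coe_mul, Subgroup.coe_inv, ← hk,
      ((show Commute (g : G) b from Subgroup.mem_centralizer_singleton_iff.1 g.2).zpow_right k).eq,
      mul_inv_cancel_right]
    exact zpow_mem (Subgroup.mem_zpowers b) k
  · rw [Nat.card_congr (Subgroup.subgroupOfEquivOfLe
      (Subgroup.zpowers_le.2 (Subgroup.mem_centralizer_singleton_iff.2 rfl))).toEquiv, Nat.card_zpowers, hb11]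
    norm_num

theorem isolated_z : IsIsolatedInvolution (⟨z, (z_mem_CQ F.hyp hb).2⟩ : ↥(Subgroup.centralizer ({b} : Set G))) := by
  refine ⟨by rw [← Subgroup.orderOf_coe]; exact F.hyp.1, fun g hg => Subtype.ext ?_⟩
  have hc : z * ((g : G) * z * (g : G)⁻¹) = (g : G) * z * (g : G)⁻¹ * z := congrArg Subtype.val hg.eq
  have hz : z * z = 1 := (extraAt F.hyp).sq_one
  refine (DD_invol F.hyp hb hb11 (u := (g : G) * z * (g : G)⁻¹)
    ⟨mem_cH.2 hc.symm, (g * ⟨z, (z_mem_CQ F.hyp hb).2⟩ * g⁻¹).2⟩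
    (by rw [conj_mul, hz, mul_one, mul_inv_cancel])).resolve_left fun h => ?_
  rw [mul_inv_eq_one, mul_eq_left] at h
  exact (extraAt F.hyp).ne_one h

/-- `C(b) = O (C(b) ∩ C(z))`. -/
theorem exists_split {g : G} (hg : g ∈ Subgroup.centralizer ({b} : Set G)) :
    ∃ o ∈ OO b, o⁻¹ * g ∈ DD z b := by
  have hstar : g * z * g⁻¹ * z⁻¹ ∈ OO b :=
    ⟨_, CfsgLib.Involutions.zstar _ _ (isolated_z F hb hb11) ⟨g, hg⟩, rfl⟩
  set u := g * z * g⁻¹ with hu
  have hz : z * z = 1 := (extraAt F.hyp).sq_one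
  have hzi : z⁻¹ = z := (extraAt F.hyp).inv_eq
  have huu : u * u = 1 := by rw [hu, conj_mul, hz, mul_one, mul_inv_cancel]
  have hodd : Odd (orderOf (u * z)) := by
    refine Odd.of_dvd_nat (OO_odd b) ?_
    rw [← hzi]
    exact Subgroup.orderOf_dvd_natCard _ hstar
  obtain ⟨d, hd, hd2, -⟩ := CfsgLib.Involutions.Isolated.exists_sqrt_of_odd hodd
  have hinv : z * (u * z) * z⁻¹ = (u * z)⁻¹ := by
    rw [hzi, mul_inv_rev, hzi, inv_eq_of_mul_eq_one_right huu, ← mul_assoc z u z, mul_assoc (z * u) z z, hz,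
      mul_one]
  have hzd : z * d * z⁻¹ = d⁻¹ := CfsgLib.Involutions.Isolated.inv_of_mem_zpowers hinv hd
  have hdO : d ∈ OO b := by
    refine (Subgroup.zpowers_le.2 ?_) hd
    rw [hzi] at hstar
    exact hstar
  have hdz : d * z * d⁻¹ = u := by
    have h1 : z * d⁻¹ = d * z := by
      have h2 : z * d⁻¹ * z⁻¹ = d := by rw [← conj_inv, hzd, inv_inv]
      exact mul_inv_eq_iff_eq_mul.1 h2
    rw [mul_assoc, h1, ← mul_assoc, ← sq, hd2, mul_assoc, hz, mul_one]
  refine ⟨d, hdO, ?_, (Subgroup.centralizer ({b} : Set G)).mul_mem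
    ((Subgroup.centralizer ({b} : Set G)).inv_mem (OO_le hdO)) hg⟩
  refine mem_cH.2 ?_
  calc d⁻¹ * g * z = d⁻¹ * (g * z * g⁻¹) * g := by group
    _ = d⁻¹ * (d * z * d⁻¹) * g := by rw [hdz]
    _ = z * (d⁻¹ * g) := by group

theorem OO_inf_DD {x : G} (hx : x ∈ OO b) (hx' : x ∈ DD z b) : x ∈ Subgroup.zpowers b := by
  classical
  set R := OO b ⊓ DD z b with hR
  have hle : Subgroup.zpowers b ≤ R :=
    Subgroup.zpowers_le.2 ⟨b_mem_OO F hb hb11, hb.1, Subgroup.mem_centralizer_singleton_iff.2 rfl⟩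
  have hd : Nat.card R ∣ 33 := by
    have h264 : Nat.card R ∣ 8 * 33 := (Subgroup.card_dvd_of_le (inf_le_right : R ≤ DD z b)).trans (by rw [card_DD F.hyp hb hb11])
    refine Nat.Coprime.dvd_of_dvd_mul_left ?_ h264
    have : Odd (Nat.card R) := Odd.of_dvd_nat (OO_odd b) (Subgroup.card_dvd_of_le inf_le_left)
    exact (Nat.Coprime.pow_right 3 (Nat.coprime_two_right.2 this))
  have h3 : ¬ 3 ∣ Nat.card R := by
    intro h3
    have : Fact (Nat.Prime 3) := ⟨Nat.prime_three⟩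
    obtain ⟨g, hg⟩ := exists_prime_orderOf_dvd_card' (G := R) 3 h3
    obtain ⟨q, hq, hq1⟩ : ∃ q ∈ P, q ≠ 1 := P.bot_or_exists_ne_one.resolve_left fun hbot => by
      have := card_P F.hyp
      rw [hbot, Subgroup.card_bot] at this
      omega
    have hqD : q ∈ DD z b := (P_le_KK F.hyp hb hq).2
    have hgc : ∀ e ∈ CQ z b, (g : G) * e = e * g := fun e he => by
      have heD : e ∈ DD z b := (CQ_le_KK F.hyp hb he).2
      have h1 : (g : G) * e * (g : G)⁻¹ * e⁻¹ ∈ CQ z b :=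
        mul_mem (CQ_normal_DD F.hyp g.2.2 he) (inv_mem he)
      have h2 : (g : G) * e * (g : G)⁻¹ * e⁻¹ ∈ OO b := by
        rw [show (g : G) * e * (g : G)⁻¹ * e⁻¹ = g * (e * (g : G)⁻¹ * e⁻¹) by group]
        exact mul_mem g.2.1 (OO_conj heD.2 (inv_mem g.2.1))
      have hdvd := Nat.dvd_gcd ((CQ z b).orderOf_dvd_natCard h1) ((OO b).orderOf_dvd_natCard h2)
      rw [card_CQ F.hyp hb hb11] at hdvd
      have hg8 : Nat.gcd 8 (Nat.card ↥(OO b)) = 1 :=
        Nat.Coprime.pow_left 3 (Nat.coprime_two_left.2 (OO_odd b))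
      rw [hg8, Nat.dvd_one, orderOf_eq_one_iff, mul_inv_eq_one, mul_inv_eq_iff_eq_mul] at hdvd
      exact hdvd
    obtain ⟨c, hc⟩ := CfsgLib.MathieuTwentyTwo.Model.exists_conj_zpowers (G := DD z b) (p := 3) (by norm_num)
      (by rw [card_DD F.hyp hb hb11]; norm_num) (y := ⟨q, hqD⟩) (w := ⟨g, g.2.2⟩)
      (by rw [← Subgroup.orderOf_coe]; exact orderOf_eq_prime (pow_three_P F.hyp hq) hq1)
      (by rw [← Subgroup.orderOf_coe, Subgroup.coe_mk, Subgroup.orderOf_coe]; exact hg)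
    obtain ⟨k, hk⟩ := Subgroup.mem_zpowers_iff.1 (hc ▸ Subgroup.mem_zpowers _ :
      (⟨q, hqD⟩ : DD z b) ∈ Subgroup.zpowers (c * ⟨g, g.2.2⟩ * c⁻¹))
    have hk' : ((c : G) * g * (c : G)⁻¹) ^ k = q := congrArg Subtype.val hk
    have hle' : CQ z b ≤ Subgroup.zpowers z := by
      intro e he
      rw [← F.hyp.2.2.2.2.2.2.1]
      refine ⟨he.1, Subgroup.mem_centralizer_iff.2 fun p hp => ?_⟩
      have h1 : Commute ((c : G) * g * (c : G)⁻¹) e := by
        have h := hgc _ (CQ_normal_DD F.hyp (inv_mem c.2) he)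
        rw [inv_inv] at h
        calc (c : G) * g * (c : G)⁻¹ * e = c * (g * ((c : G)⁻¹ * e * c)) * (c : G)⁻¹ := by group
          _ = c * ((c : G)⁻¹ * e * c * g) * (c : G)⁻¹ := by rw [h]
          _ = e * (c * g * (c : G)⁻¹) := by group
      have hP : Subgroup.zpowers q = P := Subgroup.eq_of_le_of_card_ge (Subgroup.zpowers_le.mpr hq)
        (by rw [card_P F.hyp, Nat.card_zpowers, orderOf_eq_prime (pow_three_P F.hyp hq) hq1])
      rw [SetLike.mem_coe, ← hP, Subgroup.mem_zpowers_iff] at hp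
      obtain ⟨n, rfl⟩ := hp
      rw [← hk']
      exact ((h1.zpow_left k).zpow_left n).eq
    have := Subgroup.card_le_of_le hle'
    rw [card_CQ F.hyp hb hb11, Nat.card_zpowers, F.hyp.1] at this
    omega
  have h11 : 11 ∣ Nat.card R := hb11 ▸ Subgroup.orderOf_dvd_natCard R (hle (Subgroup.mem_zpowers b))
  have hR11 : Nat.card R = 11 := by
    have := Nat.le_of_dvd (by norm_num) hd
    interval_cases h : Nat.card R <;> simp_all (config := { decide := true })
  rw [← Subgroup.eq_of_le_of_card_ge hle (by rw [hR11, Nat.card_zpowers, hb11]) |>.symm]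
  exact ⟨hx, hx'⟩

theorem card_centralizer_eq : Nat.card ↥(Subgroup.centralizer ({b} : Set G)) = 24 * Nat.card ↥(OO b) := by
  classical
  set C := Subgroup.centralizer ({b} : Set G) with hC
  set O' := pPrimeCore 2 ↥C with hO'
  set D := (DD z b).subgroupOf C with hD
  have hmap : D.map (QuotientGroup.mk' O') = ⊤ := by
    refine eq_top_iff.2 fun w _ => ?_
    obtain ⟨g, rfl⟩ := QuotientGroup.mk'_surjective O' w
    obtain ⟨o, ho, hog⟩ := exists_split F hb hb11 g.2
    refine ⟨⟨o⁻¹ * g, hog.2⟩, hog, ?_⟩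
    obtain ⟨o', ho', ho''⟩ := ho
    rw [QuotientGroup.mk'_apply, QuotientGroup.mk'_apply, QuotientGroup.eq]
    have : (⟨o⁻¹ * g, hog.2⟩ : C)⁻¹ * g = g⁻¹ * o' * g := Subtype.ext (by
      show (o⁻¹ * (g : G))⁻¹ * g = (g : G)⁻¹ * (o' : G) * g
      rw [show ((o' : C) : G) = o from ho'']
      group)
    rw [this]
    simpa using (inferInstance : O'.Normal).conj_mem o' ho' g⁻¹
  have hk : Nat.card ((QuotientGroup.mk' O').ker.subgroupOf D) = 11 := by
    rw [QuotientGroup.ker_mk', ← hb11, ← Nat.card_zpowers]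
    refine Nat.card_congr
      { toFun := fun x => ⟨x.1.1.1, OO_inf_DD F hb hb11 ⟨x.1.1, x.2, rfl⟩ x.1.2⟩
        invFun := fun g => ⟨⟨⟨g.1, ?_⟩, ?_⟩, ?_⟩
        left_inv := fun _ => rfl
        right_inv := fun _ => rfl }
    · exact (Subgroup.zpowers_le.2 (Subgroup.mem_centralizer_singleton_iff.2 rfl)) g.2
    · exact (Subgroup.zpowers_le.2 (show b ∈ DD z b from
        ⟨hb.1, Subgroup.mem_centralizer_singleton_iff.2 rfl⟩)) g.2
    · obtain ⟨y, hy, hye⟩ := (Subgroup.zpowers_le.2 (b_mem_OO F hb hb11)) g.2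
      show (⟨g.1, _⟩ : C) ∈ O'
      rwa [show (⟨g.1, _⟩ : C) = y from Subtype.ext hye.symm]
  have h := card_eq_card_map_mul (QuotientGroup.mk' O') D
  rw [hmap, hk, Subgroup.card_top, Nat.card_congr (Subgroup.subgroupOfEquivOfLe
    (inf_le_right : DD z b ≤ C)).toEquiv, card_DD F.hyp hb hb11] at h
  have h24 : Nat.card (↥C ⧸ O') = 24 := Nat.eq_of_mul_eq_mul_right (by norm_num : 0 < 11) h.symm
  rw [Subgroup.card_eq_card_quotient_mul_card_subgroup O', h24,
    Subgroup.card_map_of_injective C.subtype_injective]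

theorem z_conj_OO {x : G} (hx : x ∈ OO b) : z * x * z⁻¹ ∈ OO b := OO_conj (z_mem_DD F hb hb11).2 hx

/-- An element moved by `z` within its coset of `⟨b⟩` is central for `z`. -/
theorem mem_of_fixed_mod {x : G} (hx : x ∈ OO b) (h : x⁻¹ * (z * x * z⁻¹) ∈ Subgroup.zpowers b) :
    x ∈ Subgroup.zpowers b := by
  obtain ⟨m, hm⟩ := Subgroup.mem_zpowers_iff.1 h
  have hzx : z * x * z⁻¹ = x * b ^ m := by rw [hm, mul_inv_cancel_left]
  have hzb : Commute z b := (z_comm_b F.hyp hb hb11).symm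
  have hzi := (extraAt F.hyp).inv_eq
  have h2 : x * (b ^ m * b ^ m) = x := by
    have hzbm : z * b ^ m * z⁻¹ = b ^ m := by rw [(hzb.zpow_right m).eq, mul_inv_cancel_right]
    have h3 : z * (z * x * z⁻¹) * z⁻¹ = x * b ^ m * b ^ m := by
      rw [hzx, ← conj_mul, hzx, hzbm]
    rw [← mul_assoc x, ← h3, hzi, ← mul_assoc z (z * x) z, ← mul_assoc z z x, (extraAt F.hyp).sq_one, one_mul,
      mul_assoc, (extraAt F.hyp).sq_one, mul_one]
  have hm0 : b ^ m = 1 := by
    rw [mul_eq_left, ← zpow_add, ← orderOf_dvd_iff_zpow_eq_one, hb11] at h2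
    rw [← orderOf_dvd_iff_zpow_eq_one, hb11]
    omega
  refine OO_inf_DD F hb hb11 hx ⟨mem_cH.2 ?_, OO_le hx⟩
  rw [hm0, mul_one, mul_inv_eq_iff_eq_mul] at hzx
  exact hzx.symm

theorem inv_mod {x : G} (hx : x ∈ OO b) : z * x * z⁻¹ * x ∈ Subgroup.zpowers b := by
  classical
  set O := OO b with hO
  set K := (Subgroup.zpowers b).subgroupOf O with hK
  have : K.Normal := ⟨fun n hn g => by
    obtain ⟨k, hk⟩ := Subgroup.mem_zpowers_iff.1 (Subgroup.mem_subgroupOf.1 hn)
    rw [hK, Subgroup.mem_subgroupOf, Subgroup.coe_mul, Subgroup.coe_mul, Subgroup.coe_inv, ← hk,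
      ((show Commute (g : G) b from comm_b g.2).zpow_right k).eq, mul_inv_cancel_right]
    exact zpow_mem (Subgroup.mem_zpowers b) k⟩
  let ψ : O →* O := MonoidHom.mk' (fun y => ⟨z * y * z⁻¹, z_conj_OO F hb hb11 y.2⟩) fun a c =>
    Subtype.ext (by show z * ((a : G) * c) * z⁻¹ = z * a * z⁻¹ * (z * c * z⁻¹); group)
  let φ : O ⧸ K →* O ⧸ K := QuotientGroup.map K K ψ fun n hn => by
    obtain ⟨k, hk⟩ := Subgroup.mem_zpowers_iff.1 (Subgroup.mem_subgroupOf.1 hn)
    rw [Subgroup.mem_comap, hK, Subgroup.mem_subgroupOf]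
    show z * (n : G) * z⁻¹ ∈ _
    rw [← hk, (Commute.zpow_right (show Commute z b from (z_comm_b F.hyp hb hb11).symm) k).eq,
      mul_inv_cancel_right]
    exact zpow_mem (Subgroup.mem_zpowers b) k
  have hfp : MonoidHom.FixedPointFree φ := by
    intro w hw
    obtain ⟨y, rfl⟩ := QuotientGroup.mk_surjective w
    rw [QuotientGroup.eq_one_iff, hK, Subgroup.mem_subgroupOf]
    refine mem_of_fixed_mod F hb hb11 y.2 ?_
    have := QuotientGroup.eq.1 hw.symm
    exact Subgroup.mem_subgroupOf.1 this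
  have hinv : Function.Involutive φ := by
    intro w
    obtain ⟨y, rfl⟩ := QuotientGroup.mk_surjective w
    show ((ψ (ψ y) : O) : O ⧸ K) = _
    congr 1
    apply Subtype.ext
    show z * (z * (y : G) * z⁻¹) * z⁻¹ = y
    rw [(extraAt F.hyp).inv_eq, ← mul_assoc z (z * (y : G)) z, ← mul_assoc z z (y : G),
      (extraAt F.hyp).sq_one, one_mul, mul_assoc, (extraAt F.hyp).sq_one, mul_one]
  have h := congrFun (hfp.coe_eq_inv_of_involutive hinv) ((⟨x, hx⟩ : O) : O ⧸ K)
  have h' : ((ψ ⟨x, hx⟩ * ⟨x, hx⟩ : O) : O ⧸ K) = 1 := by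
    rw [QuotientGroup.mk_mul]
    show φ ((⟨x, hx⟩ : O) : O ⧸ K) * _ = 1
    rw [h, inv_mul_cancel]
  exact Subgroup.mem_subgroupOf.1 ((QuotientGroup.eq_one_iff _).1 h')

theorem comm_mod {x y : G} (hx : x ∈ OO b) (hy : y ∈ OO b) :
    (y * x)⁻¹ * (x * y) ∈ Subgroup.zpowers b := by
  have hz : ∀ {u : G}, u ∈ OO b → z * u * z⁻¹ * u ∈ Subgroup.zpowers b := fun {u} hu => inv_mod F hb hb11 hu
  obtain ⟨i, hi⟩ := Subgroup.mem_zpowers_iff.1 (hz hx)
  obtain ⟨j, hj⟩ := Subgroup.mem_zpowers_iff.1 (hz hy)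
  obtain ⟨k, hk⟩ := Subgroup.mem_zpowers_iff.1 (hz (mul_mem hx hy))
  have hcx : ∀ n : ℤ, x⁻¹ * b ^ n = b ^ n * x⁻¹ := fun n =>
    ((show Commute x b from comm_b hx).inv_left.zpow_right n).eq
  have hcy : ∀ n : ℤ, y⁻¹ * b ^ n = b ^ n * y⁻¹ := fun n =>
    ((show Commute y b from comm_b hy).inv_left.zpow_right n).eq
  have e : b ^ i * x⁻¹ * (b ^ j * y⁻¹) * (x * y) = b ^ k := by
    rw [hi, hj, hk]; group
  rw [show b ^ i * x⁻¹ * (b ^ j * y⁻¹) = b ^ i * b ^ j * (x⁻¹ * y⁻¹) by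
    rw [← mul_assoc, mul_assoc (b ^ i) x⁻¹, hcx]; group] at e
  refine Subgroup.mem_zpowers_iff.2 ⟨-j + -i + k, ?_⟩
  rw [zpow_add, zpow_add, zpow_neg, zpow_neg, ← e]
  group

/-- A coset of `⟨b⟩` whose powers are invariant under the quaternion group is trivial. -/
theorem mem_of_invariant {s : G} (hs : s ∈ OO b)
    (h : ∀ c ∈ CQ z b, ∃ k : ℤ, (c * s * c⁻¹)⁻¹ * s ^ k ∈ Subgroup.zpowers b) :
    s ∈ Subgroup.zpowers b := by
  classical
  set C := Subgroup.centralizer ({b} : Set G) with hC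
  set B := (Subgroup.zpowers b).subgroupOf C with hB
  have : B.Normal := ⟨fun n hn g => by
    obtain ⟨k, hk⟩ := Subgroup.mem_zpowers_iff.1 (Subgroup.mem_subgroupOf.1 hn)
    rw [hB, Subgroup.mem_subgroupOf, Subgroup.coe_mul, Subgroup.coe_mul, Subgroup.coe_inv, ← hk,
      ((show Commute (g : G) b from Subgroup.mem_centralizer_singleton_iff.1 g.2).zpow_right k).eq,
      mul_inv_cancel_right]
    exact zpow_mem (Subgroup.mem_zpowers b) k⟩
  set mk := QuotientGroup.mk' B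
  set S := mk ⟨s, OO_le hs⟩ with hS
  have hact : ∀ (c : G) (hc : c ∈ CQ z b), ∃ k : ℤ, mk ⟨c, hc.2⟩ * S * (mk ⟨c, hc.2⟩)⁻¹ = S ^ k := by
    intro c hc
    obtain ⟨k, hk⟩ := h c hc
    refine ⟨k, ?_⟩
    rw [hS, ← map_zpow, ← map_inv, ← map_mul, ← map_mul]
    refine QuotientGroup.eq.2 (Subgroup.mem_subgroupOf.2 ?_)
    rw [Subgroup.coe_mul, Subgroup.coe_inv, Subgroup.coe_mul, Subgroup.coe_mul, Subgroup.coe_inv,
      SubgroupClass.coe_zpow]
    exact hk
  obtain ⟨e, he, he1⟩ : ∃ e ∈ CQ z b, e ≠ 1 ∧ e ≠ z := by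
    by_contra hno
    push Not at hno
    have hle : CQ z b ≤ Subgroup.zpowers z := fun e he => (extraAt F.hyp).mem_zpowers_z.2
      ((em (e = 1)).imp id (hno e he))
    have := Subgroup.card_le_of_le hle
    rw [card_CQ F.hyp hb hb11, Nat.card_zpowers, F.hyp.1] at this
    omega
  obtain ⟨f, hf, hfe⟩ := exists_noncomm F.hyp hb hb11 he he1.1 he1.2
  have hz : f * e = z * (e * f) := by
    rcases (extraAt F.hyp).conj_cases hf.1 he.1 with e' | e'
    · exact absurd (mul_inv_eq_iff_eq_mul.1 e') hfe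
    · rw [← mul_assoc]; exact mul_inv_eq_iff_eq_mul.1 e'
  obtain ⟨k, hk⟩ := hact f hf
  obtain ⟨l, hl⟩ := hact e he
  set Fq := mk ⟨f, hf.2⟩
  set Eq' := mk ⟨e, he.2⟩
  set Zq := mk ⟨z, (z_mem_CQ F.hyp hb).2⟩
  have hrel : Fq * Eq' = Zq * (Eq' * Fq) := by
    rw [← map_mul, ← map_mul, ← map_mul]
    exact congrArg mk (Subtype.ext hz)
  have h1 : Fq * Eq' * S * (Fq * Eq')⁻¹ = S ^ (k * l) := by
    rw [zpow_mul, ← hk, conj_zpow, ← hl]; group
  have h2 : Eq' * Fq * S * (Eq' * Fq)⁻¹ = S ^ (k * l) := by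
    rw [mul_comm k l, zpow_mul, ← hl, conj_zpow, ← hk]; group
  have h3 : Zq * S ^ (k * l) * Zq⁻¹ = S ^ (k * l) := by
    conv_lhs => rw [← h2]
    rw [show Zq * (Eq' * Fq * S * (Eq' * Fq)⁻¹) * Zq⁻¹ = Zq * (Eq' * Fq) * S * (Zq * (Eq' * Fq))⁻¹ by group,
      ← hrel, h1]
  have h4 : Commute Zq (Fq * Eq' * S * (Fq * Eq')⁻¹) := by
    rw [h1]; exact mul_inv_eq_iff_eq_mul.1 h3
  have hcomm : ∀ (c : G) (hc : c ∈ CQ z b), Commute Zq (mk ⟨c, hc.2⟩) := fun c hc => by
    rw [Commute, SemiconjBy, ← map_mul, ← map_mul]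
    exact congrArg mk (Subtype.ext (((extraAt F.hyp).comm_z hc.1).symm))
  have h5 : Commute Zq S := by
    have hFE : Commute Zq (Fq * Eq') := (hcomm f hf).mul_right (hcomm e he)
    have := (hFE.inv_right.mul_right h4).mul_right hFE
    simpa [mul_assoc] using this
  refine mem_of_fixed_mod F hb hb11 hs ?_
  have h6 : mk ⟨s, OO_le hs⟩ = mk (⟨z, (z_mem_CQ F.hyp hb).2⟩ * ⟨s, OO_le hs⟩ * ⟨z, (z_mem_CQ F.hyp hb).2⟩⁻¹) := by
    rw [map_mul, map_mul, map_inv]
    show S = Zq * S * Zq⁻¹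
    rw [h5.eq, mul_inv_cancel_right]
  exact Subgroup.mem_subgroupOf.1 (QuotientGroup.eq.1 h6)

/-- A prime dividing `|O : ⟨b⟩|` exactly once cannot occur. -/
theorem not_exact_prime {q : ℕ} (hq : q.Prime) {a : ℕ} (hO : Nat.card ↥(OO b) = 11 * (q * a)) (ha : ¬ q ∣ a) :
    False := by
  classical
  set O := OO b with hOdef
  set K := (Subgroup.zpowers b).subgroupOf O with hK
  have : K.Normal := ⟨fun n hn g => by
    obtain ⟨k, hk⟩ := Subgroup.mem_zpowers_iff.1 (Subgroup.mem_subgroupOf.1 hn)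
    rw [hK, Subgroup.mem_subgroupOf, Subgroup.coe_mul, Subgroup.coe_mul, Subgroup.coe_inv, ← hk,
      ((show Commute (g : G) b from comm_b g.2).zpow_right k).eq, mul_inv_cancel_right]
    exact zpow_mem (Subgroup.mem_zpowers b) k⟩
  have hKc : Nat.card K = 11 := by
    rw [Nat.card_congr (Subgroup.subgroupOfEquivOfLe
      (Subgroup.zpowers_le.2 (b_mem_OO F hb hb11))).toEquiv, Nat.card_zpowers, hb11]
  have hQc : Nat.card (O ⧸ K) = q * a := by
    have h := Subgroup.card_eq_card_quotient_mul_card_subgroup K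
    rw [hO, hKc, mul_comm _ 11] at h
    exact (Nat.eq_of_mul_eq_mul_left (by norm_num) h).symm
  have hcommQ : ∀ u v : O ⧸ K, u * v = v * u := by
    intro u v
    obtain ⟨x, rfl⟩ := QuotientGroup.mk_surjective u
    obtain ⟨y, rfl⟩ := QuotientGroup.mk_surjective v
    rw [← QuotientGroup.mk_mul, ← QuotientGroup.mk_mul, eq_comm, QuotientGroup.eq, hK, Subgroup.mem_subgroupOf]
    exact comm_mod F hb hb11 x.2 y.2
  have := Fact.mk hq
  obtain ⟨S, hS⟩ := exists_prime_orderOf_dvd_card' (G := O ⧸ K) q (hQc ▸ dvd_mul_right q a)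
  obtain ⟨s, rfl⟩ := QuotientGroup.mk_surjective S
  have hs : (s : G) ∉ Subgroup.zpowers b := fun h => by
    rw [(QuotientGroup.eq_one_iff s).2 (Subgroup.mem_subgroupOf.2 h), orderOf_one] at hS
    exact hq.ne_one hS.symm
  refine hs (mem_of_invariant F hb hb11 s.2 fun c hc => ?_)
  set s' : O := ⟨c * s * c⁻¹, OO_conj hc.2 s.2⟩ with hs'
  have hord : orderOf (s' : O ⧸ K) = q := by
    refine orderOf_eq_prime ?_ fun h => hs ?_
    · rw [← QuotientGroup.mk_pow, QuotientGroup.eq_one_iff, hK, Subgroup.mem_subgroupOf, SubgroupClass.coe_pow,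
        hs', conj_pow]
      have hp : ((s : G) ^ q) ∈ Subgroup.zpowers b := by
        have := pow_orderOf_eq_one (s : O ⧸ K)
        rw [hS, ← QuotientGroup.mk_pow, QuotientGroup.eq_one_iff, hK, Subgroup.mem_subgroupOf] at this
        exact this
      obtain ⟨m, hm⟩ := Subgroup.mem_zpowers_iff.1 hp
      rw [← hm, ((show Commute c b from Subgroup.mem_centralizer_singleton_iff.1 hc.2).zpow_right m).eq,
        mul_inv_cancel_right]
      exact zpow_mem (Subgroup.mem_zpowers b) m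
    · rw [QuotientGroup.eq_one_iff, hK, Subgroup.mem_subgroupOf] at h
      obtain ⟨m, hm⟩ := Subgroup.mem_zpowers_iff.1 h
      have hc' : Commute c⁻¹ b := (show Commute c b from Subgroup.mem_centralizer_singleton_iff.1 hc.2).inv_left
      have e : (s : G) = c⁻¹ * (c * s * c⁻¹) * c := by group
      rw [e, ← show b ^ m = c * (s : G) * c⁻¹ from hm, (hc'.zpow_right m).eq, inv_mul_cancel_right]
      exact zpow_mem (Subgroup.mem_zpowers b) m
  obtain ⟨d, hd⟩ := CfsgLib.MathieuTwentyTwo.Model.exists_conj_zpowers (p := q) hq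
    (by rw [hQc]; exact fun h => ha (Nat.dvd_of_mul_dvd_mul_left hq.pos h)) (y := (s : O ⧸ K)) hS hord
  rw [hcommQ d, mul_inv_cancel_right] at hd
  obtain ⟨k, hk⟩ := Subgroup.mem_zpowers_iff.1 (hd ▸ Subgroup.mem_zpowers _ :
    (s' : O ⧸ K) ∈ Subgroup.zpowers (s : O ⧸ K))
  refine ⟨k, ?_⟩
  rw [← QuotientGroup.mk_zpow, eq_comm, QuotientGroup.eq, hK, Subgroup.mem_subgroupOf, Subgroup.coe_mul,
    Subgroup.coe_inv, SubgroupClass.coe_zpow] at hk
  exact hk

omit hb hb11 in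
/-- A subgroup centralising elements of order three and eleven. -/
theorem card_dvd_of_three {g w : G} (hg : orderOf g = 3) (hw : orderOf w = 11) (hgw : g * w = w * g)
    (R : Subgroup G) (hR : ∀ r ∈ R, r * g = g * r ∧ r * w = w * r) : Nat.card R ∣ 66 := by
  classical
  have hJ := F.hyp
  obtain ⟨q, hq, hq1⟩ : ∃ q ∈ P, q ≠ 1 := P.bot_or_exists_ne_one.resolve_left fun hbot => by
    have := card_P hJ
    rw [hbot, Subgroup.card_bot] at this
    omega
  have hq3 : orderOf q = 3 := by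
    have : Fact (Nat.Prime 3) := ⟨Nat.prime_three⟩
    exact orderOf_eq_prime (pow_three_P hJ hq) hq1
  obtain ⟨c, hc⟩ := isConj_iff.1 (F.three g q hg hq3)
  have hP : Subgroup.zpowers q = P := Subgroup.eq_of_le_of_card_ge (Subgroup.zpowers_le.mpr hq)
    (by rw [card_P hJ, Nat.card_zpowers, hq3])
  have hcC : ∀ x : G, x * g = g * x → c * x * c⁻¹ ∈ cC z P := by
    intro x hx
    have h1 : c * x * c⁻¹ * q = q * (c * x * c⁻¹) := by
      rw [← hc]
      calc c * x * c⁻¹ * (c * g * c⁻¹) = c * (x * g) * c⁻¹ := by group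
        _ = c * (g * x) * c⁻¹ := by rw [hx]
        _ = (c * g * c⁻¹) * (c * x * c⁻¹) := by group
    have hcent : c * x * c⁻¹ ∈ Subgroup.centralizer (P : Set G) := by
      refine Subgroup.mem_centralizer_iff.2 fun p hp => ?_
      rw [SetLike.mem_coe, ← hP, Subgroup.mem_zpowers_iff] at hp
      obtain ⟨n, rfl⟩ := hp
      exact ((show Commute q (c * x * c⁻¹) from h1.symm).zpow_left n).eq
    exact ⟨F.normalizer_le (Subgroup.centralizer_le_normalizer _ hcent), hcent⟩
  obtain ⟨ρ, -, hρ⟩ := exists_rho hJ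
  set W : ↥(cC z P) := ⟨c * w * c⁻¹, hcC w hgw.symm⟩ with hW
  have hWo : orderOf W = 11 := by
    rw [← Subgroup.orderOf_coe, ← hw]
    exact (MulAut.conj c).orderOf_eq w
  have hρW : orderOf (ρ W) = 11 := by
    have hd : orderOf (ρ W) ∣ 11 := hWo ▸ orderOf_map_dvd ρ W
    refine ((Nat.dvd_prime (by norm_num)).1 hd).resolve_left fun h1 => ?_
    rw [orderOf_eq_one_iff] at h1
    have h6 : (W : G) ^ 6 = 1 := pow_six_ker hJ ((hρ W).1 h1)
    have := orderOf_dvd_of_pow_eq_one h6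
    rw [Subgroup.orderOf_coe, hWo] at this
    norm_num at this
  set R' : Subgroup ↥(cC z P) := (R.map (MulAut.conj c).toMonoidHom).subgroupOf (cC z P) with hR'
  have hle : R.map (MulAut.conj c).toMonoidHom ≤ cC z P := by
    rintro _ ⟨r, hr, rfl⟩
    exact hcC r (hR r hr).1
  have h := card_eq_card_map_mul ρ R'
  rw [Nat.card_congr (Subgroup.subgroupOfEquivOfLe hle).toEquiv,
    Subgroup.card_map_of_injective (MulAut.conj c).injective] at h
  rw [h, show (66 : ℕ) = 11 * 6 from rfl]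
  refine Nat.mul_dvd_mul ?_ ?_
  · rw [← card_centralizer_M22 hρW]
    refine Subgroup.card_dvd_of_le ?_
    rintro _ ⟨x, hx, rfl⟩
    obtain ⟨r, hr, hre⟩ := Subgroup.mem_subgroupOf.1 hx
    rw [Subgroup.mem_centralizer_singleton_iff, ← map_mul, ← map_mul]
    congr 1
    apply Subtype.ext
    show (x : G) * (c * w * c⁻¹) = c * w * c⁻¹ * (x : G)
    rw [show (x : G) = c * r * c⁻¹ from hre.symm]
    calc c * r * c⁻¹ * (c * w * c⁻¹) = c * (r * w) * c⁻¹ := by group
      _ = c * (w * r) * c⁻¹ := by rw [(hR r hr).2]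
      _ = c * w * c⁻¹ * (c * r * c⁻¹) := by group
  · rw [← (card_ker_rho hJ hρ).2, ← Subgroup.inf_subgroupOf_right,
      Nat.card_congr (Subgroup.subgroupOfEquivOfLe (inf_le_right : ρ.ker ⊓ R' ≤ R')).toEquiv]
    exact Subgroup.card_dvd_of_le inf_le_left

theorem not_nine : ¬ 9 ∣ Nat.card ↥(Subgroup.centralizer ({b} : Set G)) := by
  intro h9
  have : Fact (Nat.Prime 3) := ⟨Nat.prime_three⟩
  obtain ⟨R, hR⟩ := Sylow.exists_subgroup_card_pow_prime 3 (show 3 ^ 2 ∣ _ from h9)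
  have hcomm : ∀ x y : R, x * y = y * x := IsPGroup.commutative_of_card_eq_prime_sq hR
  obtain ⟨g, hg⟩ := exists_prime_orderOf_dvd_card' (G := R) 3 (by rw [hR]; norm_num)
  have hd := card_dvd_of_three F (g := ((g : ↥(Subgroup.centralizer ({b} : Set G))) : G)) (w := b)
    (by rw [Subgroup.orderOf_coe, Subgroup.orderOf_coe]; exact hg) hb11
    (Subgroup.mem_centralizer_singleton_iff.1 g.1.2) (R.map (Subgroup.subtype _)) (by
      rintro _ ⟨r, hr, rfl⟩
      exact ⟨congrArg (fun u : R => ((u : ↥(Subgroup.centralizer ({b} : Set G))) : G)) (hcomm ⟨r, hr⟩ g),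
        Subgroup.mem_centralizer_singleton_iff.1 r.2⟩)
  rw [Subgroup.card_map_of_injective (Subgroup.subtype_injective _), hR] at hd
  norm_num at hd

theorem prime_eq_eleven {q : ℕ} (hq : q.Prime) (hd : q ∣ Nat.card ↥(OO b)) : q = 11 := by
  classical
  have := Fact.mk hq
  have hG : q ∣ Nat.card G := hd.trans (Subgroup.card_subgroup_dvd_card _)
  have hfac : (2 ^ 21 * 3 ^ 3 * 5 * 7 * 11 ^ 3 * 23 * 29 * 31 * 37 * 43 : ℕ) = 86775571046077562880 := by norm_num
  rw [F.card, ← hfac] at hG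
  obtain ⟨x, hx⟩ := exists_prime_orderOf_dvd_card' (G := OO b) q hd
  have h11 : ∀ y : G, y * b = b * y → 11 ∣ Nat.card (Subgroup.centralizer ({y} : Set G)) := fun y hy =>
    hb11 ▸ Subgroup.orderOf_dvd_natCard _ (Subgroup.mem_centralizer_singleton_iff.2 hy.symm)
  have hexact : ∀ a : ℕ, ¬ q ∣ 11 → ¬ q * q ∣ 86775571046077562880 → Nat.card ↥(OO b) = 11 * (q * a) → False := by
    intro a hq11 hqq ha
    refine not_exact_prime F hb hb11 hq ha fun hqa => hqq ?_
    rw [← F.card]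
    refine dvd_trans ?_ (ha ▸ Subgroup.card_subgroup_dvd_card (OO b))
    exact Dvd.dvd.mul_left (Nat.mul_dvd_mul_left q hqa) 11
  have hone : ∀ p : ℕ, q = p → ¬ q ∣ 11 → ¬ q * q ∣ 86775571046077562880 → False := by
    intro p _ hq11 hqq
    obtain ⟨m, hm⟩ : 11 ∣ Nat.card ↥(OO b) := hb11 ▸ Subgroup.orderOf_dvd_natCard _ (b_mem_OO F hb hb11)
    have hqm : q ∣ m := ((Nat.Prime.dvd_mul hq).1 (hm ▸ hd)).resolve_left hq11
    obtain ⟨a, rfl⟩ := hqm
    exact hexact a hq11 hqq hm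
  have hbase : ∀ p : ℕ, p.Prime → q ∣ p → q = p := fun p hp h => (Nat.prime_dvd_prime_iff_eq hq hp).1 h
  rcases (Nat.Prime.dvd_mul hq).1 hG with h | h
  swap; · have e := hbase 43 (by norm_num) h; exact (hone 43 e (by rw [e]; norm_num) (by rw [e]; norm_num)).elim
  rcases (Nat.Prime.dvd_mul hq).1 h with h | h
  swap; · have e := hbase 37 (by norm_num) h; exact (hone 37 e (by rw [e]; norm_num) (by rw [e]; norm_num)).elim
  rcases (Nat.Prime.dvd_mul hq).1 h with h | h
  swap; · have e := hbase 31 (by norm_num) h; exact (hone 31 e (by rw [e]; norm_num) (by rw [e]; norm_num)).elim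
  rcases (Nat.Prime.dvd_mul hq).1 h with h | h
  swap; · have e := hbase 29 (by norm_num) h; exact (hone 29 e (by rw [e]; norm_num) (by rw [e]; norm_num)).elim
  rcases (Nat.Prime.dvd_mul hq).1 h with h | h
  swap; · have e := hbase 23 (by norm_num) h; exact (hone 23 e (by rw [e]; norm_num) (by rw [e]; norm_num)).elim
  rcases (Nat.Prime.dvd_mul hq).1 h with h | h
  swap; · exact hbase 11 (by norm_num) (hq.dvd_of_dvd_pow h)
  rcases (Nat.Prime.dvd_mul hq).1 h with h | h
  swap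
  · have e := hbase 7 (by norm_num) h
    exact absurd (h11 _ (comm_b x.2)) (F.seven _ (by rw [Subgroup.orderOf_coe, hx, e]))
  rcases (Nat.Prime.dvd_mul hq).1 h with h | h
  swap
  · have e := hbase 5 (by norm_num) h
    exact absurd (h11 _ (comm_b x.2)) (F.five _ (by rw [Subgroup.orderOf_coe, hx, e]))
  rcases (Nat.Prime.dvd_mul hq).1 h with h | h
  · exfalso
    have e := hbase 2 Nat.prime_two (hq.dvd_of_dvd_pow h)
    subst e
    exact (OO_odd b).not_two_dvd_nat hd
  · exfalso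
    have e := hbase 3 Nat.prime_three (hq.dvd_of_dvd_pow h)
    subst e
    refine not_nine F hb hb11 ?_
    rw [card_centralizer_eq F hb hb11, show (24 : ℕ) = 3 * 8 from rfl, show (9 : ℕ) = 3 * 3 from rfl, mul_assoc]
    exact Nat.mul_dvd_mul_left 3 (Dvd.dvd.mul_left hd 8)

theorem card_OO : Nat.card ↥(OO b) = 11 ^ 3 := by
  classical
  have : Fact (Nat.Prime 11) := ⟨by norm_num⟩
  obtain ⟨k, hk⟩ : ∃ k, Nat.card ↥(OO b) = 11 ^ k :=
    ⟨_, Nat.eq_prime_pow_of_unique_prime_dvd Nat.card_pos.ne'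
      fun {d} hd hdd => prime_eq_eleven F hb hb11 hd hdd⟩
  have hk3 : k ≤ 3 := by
    by_contra hgt
    have h := (pow_dvd_pow 11 (show 4 ≤ k by omega)).trans (hk ▸ Subgroup.card_subgroup_dvd_card (OO b))
    rw [F.card] at h
    norm_num at h
  have h24 := card_centralizer_eq F hb hb11
  obtain ⟨U, hU⟩ := (IsPGroup.of_card (n := 1) (G := Subgroup.zpowers b)
    (by rw [Nat.card_zpowers, hb11, pow_one]) : IsPGroup 11 _).exists_le_sylow
  have hUc : Nat.card (U : Subgroup G) = 11 ^ 3 := by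
    rw [Sylow.card_eq_multiplicity, F.card,
      show (86775571046077562880 : ℕ) = 11 ^ 3 * (2 ^ 21 * 3 ^ 3 * 5 * 7 * 23 * 29 * 31 * 37 * 43) by norm_num,
      Nat.factorization_mul (by norm_num) (by norm_num), Finsupp.add_apply,
      Nat.Prime.factorization_pow (by norm_num), Finsupp.single_eq_same,
      Nat.factorization_eq_zero_of_not_dvd (by norm_num)]
  have hbU : b ∈ (U : Subgroup G) := hU (Subgroup.mem_zpowers b)
  have h121 : 11 ^ 2 ∣ Nat.card ↥(Subgroup.centralizer ({b} : Set G)) := by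
    have : Nontrivial (U : Subgroup G) := Finite.one_lt_card_iff_nontrivial.1 (by rw [hUc]; norm_num)
    set Z := (Subgroup.center (U : Subgroup G)).map (U : Subgroup G).subtype with hZ
    set R := Z ⊔ Subgroup.zpowers b with hR
    have hRC : R ≤ Subgroup.centralizer ({b} : Set G) := by
      refine sup_le ?_ (Subgroup.zpowers_le.2 (Subgroup.mem_centralizer_singleton_iff.2 rfl))
      rintro _ ⟨c, hc, rfl⟩
      rw [Subgroup.mem_centralizer_singleton_iff]
      exact (congrArg Subtype.val (Subgroup.mem_center_iff.1 hc ⟨b, hbU⟩)).symm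
    by_cases hbZ : b ∈ Z
    · have hle : (U : Subgroup G) ≤ Subgroup.centralizer ({b} : Set G) := fun u hu => by
        obtain ⟨c, hc, hce⟩ := hbZ
        rw [Subgroup.mem_centralizer_singleton_iff, ← hce]
        exact congrArg Subtype.val (Subgroup.mem_center_iff.1 hc ⟨u, hu⟩)
      exact dvd_trans (by rw [hUc]; norm_num) (Subgroup.card_dvd_of_le hle)
    · have hRU : R ≤ (U : Subgroup G) := sup_le (Subgroup.map_subtype_le _) hU
      obtain ⟨j, -, hj⟩ := (Nat.dvd_prime_pow (by norm_num)).1 (hUc ▸ Subgroup.card_dvd_of_le hRU)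
      refine dvd_trans ?_ (Subgroup.card_dvd_of_le hRC)
      rw [hj]
      refine pow_dvd_pow 11 ?_
      by_contra hlt
      have hRle : Nat.card R ≤ Nat.card (Subgroup.zpowers b) := by
        rw [hj, Nat.card_zpowers, hb11]
        exact (Nat.pow_le_pow_right (by norm_num) (show j ≤ 1 by omega)).trans (pow_one 11).le
      have he : Subgroup.zpowers b = R := Subgroup.eq_of_le_of_card_ge le_sup_right hRle
      have hne : Z ≠ ⊥ := by
        rw [hZ, Ne, Subgroup.map_eq_bot_iff_of_injective _ (Subgroup.subtype_injective _)]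
        exact fun h => absurd h (Subgroup.nontrivial_iff_ne_bot _ |>.1 U.2.center_nontrivial)
      have hZb : Z ≤ Subgroup.zpowers b := he ▸ le_sup_left
      have : Z = Subgroup.zpowers b := by
        obtain ⟨i, hi, hZi⟩ := (Nat.dvd_prime_pow (by norm_num : Nat.Prime 11)).1
          (show Nat.card Z ∣ 11 ^ 1 by rw [pow_one, ← hb11, ← Nat.card_zpowers]; exact Subgroup.card_dvd_of_le hZb)
        refine Subgroup.eq_of_le_of_card_ge hZb ?_
        rcases (show i = 0 ∨ i = 1 by omega) with rfl | rfl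
        · exact absurd (Subgroup.card_eq_one.1 (by rw [hZi]; rfl)) hne
        · rw [hZi, pow_one, Nat.card_zpowers, hb11]
      exact hbZ (this ▸ Subgroup.mem_zpowers b)
  rw [h24, hk] at h121
  have hk2 : 2 ≤ k := by
    by_contra hlt
    have := Nat.le_of_dvd (by positivity) ((Nat.Coprime.dvd_of_dvd_mul_left (by norm_num) h121))
    have h' := Nat.pow_le_pow_right (show 1 ≤ 11 by norm_num) (show k ≤ 1 by omega)
    omega
  rcases (show k = 2 ∨ k = 3 by omega) with rfl | rfl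
  · exact (not_exact_prime F hb hb11 (q := 11) (by norm_num) (a := 1) (by rw [hk]; norm_num) (by norm_num)).elim
  · exact hk

theorem card_centralizer_b : Nat.card ↥(Subgroup.centralizer ({b} : Set G)) = 24 * 11 ^ 3 := by
  rw [card_centralizer_eq F hb hb11, card_OO F hb hb11]

/-- The 11-elements of `C(b)` lie in the normal subgroup of order `11³`. -/
theorem mem_OO_of_pow {g : G} (hg : g ∈ Subgroup.centralizer ({b} : Set G)) {k : ℕ} (hk : g ^ 11 ^ k = 1) :
    g ∈ OO b := by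
  classical
  set C := Subgroup.centralizer ({b} : Set G) with hC
  set O' := pPrimeCore 2 ↥C with hO'
  have hidx : O'.index = 24 := by
    have h := O'.card_mul_index
    rw [← Subgroup.card_map_of_injective C.subtype_injective (K := O')] at h
    rw [show (O'.map C.subtype) = OO b from rfl, card_OO F hb hb11, card_centralizer_b F hb hb11] at h
    exact Nat.eq_of_mul_eq_mul_left (by norm_num : 0 < 11 ^ 3) (h.trans (mul_comm _ _))
  refine ⟨⟨g, hg⟩, ?_, rfl⟩
  rw [SetLike.mem_coe, ← QuotientGroup.eq_one_iff, ← orderOf_eq_one_iff]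
  refine Nat.eq_one_of_dvd_coprimes (a := 11 ^ k) (b := 24) (Nat.Coprime.pow_left _ (by norm_num)) ?_ ?_
  · exact orderOf_dvd_of_pow_eq_one (by
      rw [← QuotientGroup.mk_pow, show (⟨g, hg⟩ : ↥C) ^ 11 ^ k = 1 from Subtype.ext hk]; rfl)
  · rw [← hidx, Subgroup.index_eq_card]; exact orderOf_dvd_natCard _

end CfsgLib.J4Type.Eleven
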