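import Cfsg.Agent.Lib.Presented.J4Index.Primes
import Cfsg.Agent.S1703
import Mathlib.GroupTheory.PGroup

/-!
The presented fourth Janko group has a non-abelian 11-subgroup.
-/

set_option autoImplicit false

namespace CfsgLib.J4Type.Eleven

open CfsgLib.J4Index CfsgLib.J4Rep
open Subgroup

/-- Two elements of prime order with central commutator generate a `p`-group. -/
theorem isPGroup_of_class_two {M : Type*} [Group M] [Finite M] {p : ℕ} (hp : p.Prime) {a b c : M}
    (ha : a ^ p = 1) (hb : b ^ p = 1) (hcp : c ^ p = 1) (hconj : a * b * a⁻¹ = c * b) (hca : c * a = a * c)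
    (hcb : c * b = b * c) : IsPGroup p ↥((zpowers b ⊔ zpowers c) ⊔ zpowers a : Subgroup M) := by
  have := Fact.mk hp
  have hz : ∀ {x : M}, x ^ p = 1 → IsPGroup p (zpowers x) := fun {x} hx => by
    rintro ⟨y, hy⟩
    obtain ⟨k, rfl⟩ := mem_zpowers_iff.1 hy
    refine ⟨1, Subtype.ext ?_⟩
    show (x ^ k) ^ p ^ 1 = 1
    rw [pow_one, ← zpow_natCast, ← zpow_mul, mul_comm, zpow_mul, zpow_natCast, hx, one_zpow]
  set B := zpowers b ⊔ zpowers c with hB
  have hBp : IsPGroup p B := by
    refine (hz hb).to_sup_of_normal_right' (hz hcp) ?_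
    rw [zpowers_le, mem_normalizer_iff]
    intro x
    have key : ∀ y ∈ zpowers c, ∀ g : M, g * c = c * g → g * y * g⁻¹ = y := by
      intro y hy g hg
      obtain ⟨k, rfl⟩ := mem_zpowers_iff.1 hy
      rw [((show Commute g c from hg).zpow_right k).eq, mul_inv_cancel_right]
    constructor
    · intro hx; rw [key x hx b hcb.symm]; exact hx
    · intro hx
      have := key _ hx b⁻¹ ((show Commute b c from hcb.symm).inv_left).eq
      simp only [mul_assoc, inv_inv, inv_mul_cancel_left, inv_mul_cancel, mul_one] at this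
      rwa [mul_assoc, ← this] at hx
  refine hBp.to_sup_of_normal_left' (hz ha) ?_
  rw [zpowers_le]
  have hmap : B.map (MulAut.conj a).toMonoidHom = B := by
    refine eq_of_le_of_card_ge ?_ (by rw [card_map_of_injective (MulAut.conj a).injective])
    rw [hB, Subgroup.map_sup, MonoidHom.map_zpowers, MonoidHom.map_zpowers, sup_le_iff, zpowers_le, zpowers_le]
    constructor
    · show a * b * a⁻¹ ∈ _
      rw [hconj]
      exact mul_mem (mem_sup_right (mem_zpowers c)) (mem_sup_left (mem_zpowers b))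
    · show a * c * a⁻¹ ∈ _
      rw [← hca, mul_inv_cancel_right]
      exact mem_sup_right (mem_zpowers c)
  rw [mem_normalizer_iff]
  intro x
  conv_rhs => rw [← hmap]
  exact (mem_map_iff_mem (MulAut.conj a).injective).symm

/-- The witness, transported to any copy. -/
theorem exists_nonabelian {G : Type*} [Group G] [Finite G] (e : G ≃* Cfsg.Spor.J4) :
    ∃ H : Subgroup G, IsPGroup 11 H ∧ ∃ a ∈ H, ∃ c ∈ H, a * c ≠ c * a := by
  obtain ⟨x, y, hx, hy⟩ := eleven
  obtain ⟨hsimp, -⟩ := Cfsg.Agent.S1703.result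
  have hBE : Acts (rep x * rep y) tBE := hy.mul hx chk_be
  have hEB : Acts (rep y * rep x) tEB := hx.mul hy chk_eb
  have hC : Acts (rep y * rep x * (rep x * rep y)⁻¹) tC := fun v => by
    rw [Equiv.Perm.mul_apply, hEB]
    have hv := hBE ((rep x * rep y)⁻¹ v)
    rw [Equiv.Perm.coe_inv, Equiv.apply_symm_apply] at hv
    rw [hv, mul3_apply chk_c]
    rfl
  obtain ⟨c, hc⟩ : ∃ c : Cfsg.Spor.J4, c = y * x * (x * y)⁻¹ := ⟨_, rfl⟩
  have hrc : rep c = rep y * rep x * (rep x * rep y)⁻¹ := by
    rw [hc, map_mul, map_mul, map_inv, map_mul]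
  rw [← hrc] at hC
  have hne : rep c ≠ 1 := hC.ne_one c_moves
  have hinj : Function.Injective rep := by
    rw [← MonoidHom.ker_eq_bot_iff]
    refine (hsimp.eq_bot_or_eq_top_of_normal _ inferInstance).resolve_right fun h => hne ?_
    exact MonoidHom.mem_ker.1 (h ▸ Subgroup.mem_top c)
  let f : Cfsg.Spor.J4 →* G := e.symm.toMonoidHom
  have hfi : Function.Injective f := e.symm.injective
  have hx1 : x ^ 11 = 1 := hinj (by rw [map_pow, map_one]; exact hx.pow_eq_one pow_e)
  have hy1 : y ^ 11 = 1 := hinj (by rw [map_pow, map_one]; exact hy.pow_eq_one pow_b)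
  have hcx : c * x = x * c := hinj (by
    rw [map_mul, map_mul]; exact ((hx.mul hC chk_ec).ext (hC.mul hx chk_ce)))
  have hcy : c * y = y * c := hinj (by
    rw [map_mul, map_mul]; exact ((hy.mul hC chk_bc).ext (hC.mul hy chk_cb)))
  have hconj : y * x * y⁻¹ = c * x := by
    rw [hc, mul_inv_rev, show y * x * (y⁻¹ * x⁻¹) * x = y * x * y⁻¹ by group]
  have hc11 : c ^ 11 = 1 := by
    have h1 : (y * x * y⁻¹) ^ 11 = 1 := by rw [conj_pow, hx1, mul_one, mul_inv_cancel]
    rwa [hconj, (show Commute c x from hcx).mul_pow, hx1, mul_one] at h1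
  have hp := isPGroup_of_class_two (M := G) (p := 11) (by norm_num) (a := f y) (b := f x) (c := f c)
    (by rw [← map_pow, hy1, map_one]) (by rw [← map_pow, hx1, map_one]) (by rw [← map_pow, hc11, map_one])
    (by rw [← map_inv, ← map_mul, ← map_mul, hconj, map_mul])
    (by rw [← map_mul, hcy, map_mul]) (by rw [← map_mul, hcx, map_mul])
  refine ⟨_, hp, f y, mem_sup_right (mem_zpowers _), f x,
    mem_sup_left (mem_sup_left (mem_zpowers _)), fun h => hne ?_⟩
  rw [← map_mul, ← map_mul] at h
  have h' := hfi h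
  rw [show c = 1 by rw [hc, h', mul_inv_cancel], map_one]

end CfsgLib.J4Type.Eleven
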